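import Cfsg.Agent.Lib.ZJ.Replacement
import Cfsg.Prelude.Def_PLocal

/-!
`Z(J(P))` for both kinds of Thompson subgroup, naturality, and the identification with the
frozen definitions.
-/

set_option autoImplicit false
set_option maxHeartbeats 400000

namespace CfsgLib.ZJ

open Subgroup Cfsg
open scoped Pointwise

universe u v
variable {G : Type u} [Group G] {H : Type v} [Group H]

/-- The join of the good subgroups of `P` of largest order. -/
def thompsonJ (e : ℕ) (P : Subgroup G) : Subgroup G := sSup (goodMax e P)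

/-- The centre of `thompsonJ e P`. -/
def zj (e : ℕ) (P : Subgroup G) : Subgroup G :=
  thompsonJ e P ⊓ Subgroup.centralizer (thompsonJ e P : Set G)

theorem thompsonJ_le (e : ℕ) (P : Subgroup G) : thompsonJ e P ≤ P := sSup_le fun _ hA => hA.1

theorem zj_le (e : ℕ) (P : Subgroup G) : zj e P ≤ P := inf_le_left.trans (thompsonJ_le e P)

theorem le_thompsonJ {e : ℕ} {P A : Subgroup G} (hA : A ∈ goodMax e P) : A ≤ thompsonJ e P := le_sSup hA

theorem zj_commute {e : ℕ} {P A : Subgroup G} (hA : A ∈ goodMax e P) {z : G} (hz : z ∈ zj e P)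
    {a : G} (ha : a ∈ A) : a * z = z * a :=
  hz.2 a (le_thompsonJ hA ha)

theorem zj_comm {e : ℕ} {P : Subgroup G} {y z : G} (hy : y ∈ zj e P) (hz : z ∈ zj e P) : y * z = z * y :=
  hz.2 y hy.1

theorem isGood_map {e : ℕ} (f : G →* H) {A : Subgroup G} (h : IsGood e A) : IsGood e (A.map f) := by
  constructor
  · rintro _ ⟨x, hx, rfl⟩ _ ⟨y, hy, rfl⟩
    rw [← map_mul, h.1 x hx y hy, map_mul]
  · rintro _ ⟨x, hx, rfl⟩
    rw [← map_pow, h.2 x hx, map_one]

theorem isGood_comap {e : ℕ} {f : G →* H} (hf : Function.Injective f) {B : Subgroup H} (h : IsGood e B) :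
    IsGood e (B.comap f) := by
  constructor
  · intro x hx y hy
    exact hf (by rw [map_mul, map_mul]; exact h.1 _ hx _ hy)
  · intro x hx
    exact hf (by rw [map_pow, map_one]; exact h.2 _ hx)

theorem goodMax_map [Finite G] (e : ℕ) {f : G →* H} (hf : Function.Injective f) (Q : Subgroup G) :
    goodMax e (Q.map f) = (fun A => A.map f) '' goodMax e Q := by
  have hc : ∀ A : Subgroup G, Nat.card (A.map f) = Nat.card A := fun A => Subgroup.card_map_of_injective hf
  have hback : ∀ B : Subgroup H, B ≤ Q.map f → (B.comap f).map f = B ∧ B.comap f ≤ Q := by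
    intro B hB
    refine ⟨Subgroup.map_comap_eq_self (hB.trans (Subgroup.map_le_range f Q)), fun x hx => ?_⟩
    obtain ⟨y, hy, hyx⟩ := hB hx
    rwa [← hf hyx]
  ext A
  constructor
  · rintro ⟨hA, hg, hmax⟩
    obtain ⟨e1, e2⟩ := hback A hA
    refine ⟨A.comap f, ⟨e2, isGood_comap hf hg, fun B hB hBg => ?_⟩, e1⟩
    rw [← hc B, ← hc (A.comap f), e1]
    exact hmax _ (Subgroup.map_mono hB) (isGood_map f hBg)
  · rintro ⟨A, ⟨hA, hg, hmax⟩, rfl⟩
    refine ⟨Subgroup.map_mono hA, isGood_map f hg, fun B hB hBg => ?_⟩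
    obtain ⟨e1, e2⟩ := hback B hB
    rw [← e1, hc, hc]
    exact hmax _ e2 (isGood_comap hf hBg)

theorem thompsonJ_map [Finite G] (e : ℕ) {f : G →* H} (hf : Function.Injective f) (Q : Subgroup G) :
    thompsonJ e (Q.map f) = (thompsonJ e Q).map f := by
  rw [thompsonJ, thompsonJ, goodMax_map e hf]
  refine le_antisymm (sSup_le ?_) (Subgroup.map_le_iff_le_comap.mpr (sSup_le fun A hA => ?_))
  · rintro _ ⟨A, hA, rfl⟩
    exact Subgroup.map_mono (le_sSup hA)
  · exact Subgroup.map_le_iff_le_comap.mp (le_sSup ⟨A, hA, rfl⟩)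

theorem zj_map [Finite G] (e : ℕ) {f : G →* H} (hf : Function.Injective f) (Q : Subgroup G) :
    zj e (Q.map f) = (zj e Q).map f := by
  rw [zj, zj, thompsonJ_map e hf]
  ext y
  constructor
  · rintro ⟨⟨x, hx, rfl⟩, hy⟩
    refine ⟨x, ⟨hx, fun z hz => hf ?_⟩, rfl⟩
    rw [map_mul, map_mul]
    exact hy _ ⟨z, hz, rfl⟩
  · rintro ⟨x, ⟨hx, hx'⟩, rfl⟩
    refine ⟨⟨x, hx, rfl⟩, ?_⟩
    rintro _ ⟨z, hz, rfl⟩
    rw [← map_mul, ← map_mul, hx' z hz]

/-- Naturality along a homomorphism injective on `P`. -/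
theorem zj_map_of_injOn [Finite G] (e : ℕ) (f : G →* H) (P : Subgroup G) (hf : Set.InjOn f (P : Set G)) :
    zj e (P.map f) = (zj e P).map f := by
  have hg : Function.Injective (f.comp P.subtype) := fun x y h => Subtype.ext (hf x.2 y.2 h)
  have h1 : (⊤ : Subgroup P).map P.subtype = P := by
    rw [← MonoidHom.range_eq_map, Subgroup.range_subtype]
  conv_rhs => rw [← h1, zj_map e P.subtype_injective, Subgroup.map_map, ← zj_map e hg, ← Subgroup.map_map, h1]

theorem zj_conj [Finite G] (e : ℕ) (g : G) (P : Subgroup G) :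
    zj e (MulAut.conj g • P) = MulAut.conj g • zj e P := by
  rw [Subgroup.pointwise_smul_def, Subgroup.pointwise_smul_def]
  exact zj_map e (MulEquiv.injective (MulAut.conj g)) P

theorem normalizer_le_normalizer_zj [Finite G] (e : ℕ) (P : Subgroup G) :
    Subgroup.normalizer (P : Set G) ≤ Subgroup.normalizer (zj e P : Set G) := by
  intro g hg
  have h1 : MulAut.conj g • P = P := by
    ext x
    rw [mem_conj_smul_iff]
    have h2 := Subgroup.mem_normalizer_iff.mp ((Subgroup.normalizer (P : Set G)).inv_mem hg) x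
    simpa using h2.symm
  have h3 : MulAut.conj g • zj e P = zj e P := by rw [← zj_conj, h1]
  rw [Subgroup.mem_normalizer_iff]
  intro x
  conv_rhs => rw [← h3, mem_conj_smul_iff]
  simp [mul_assoc]

theorem zj_ne_bot [Finite G] {p e : ℕ} [Fact p.Prime] (he : e = 0 ∨ e = p) {P : Subgroup G}
    (hP : IsPGroup p P) (hne : P ≠ ⊥) : zj e P ≠ ⊥ := by
  have hJ : thompsonJ e P ≠ ⊥ := by
    intro hJb
    obtain ⟨A, hA⟩ := goodMax_nonempty e P
    have hA0 : A = ⊥ := le_bot_iff.mp (hJb ▸ le_thompsonJ hA)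
    obtain ⟨k, hk⟩ := hP.exists_card_eq
    have hk0 : k ≠ 0 := by
      rintro rfl
      exact hne (Subgroup.eq_bot_of_card_eq P (by simpa using hk))
    obtain ⟨x, hx⟩ := exists_prime_orderOf_dvd_card' (G := P) p (hk ▸ dvd_pow_self p hk0)
    have hgood : IsGood e (Subgroup.zpowers (x : G)) := by
      constructor
      · rintro _ ⟨i, rfl⟩ _ ⟨j, rfl⟩
        exact (Commute.refl (x : G)).zpow_zpow i j
      · rintro _ ⟨i, rfl⟩
        rcases he with rfl | rfl
        · exact pow_zero _
        · have h1 : (x : G) ^ e = 1 := by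
            rw [← hx, ← Subgroup.orderOf_coe]
            exact pow_orderOf_eq_one _
          rw [← zpow_natCast, ← zpow_mul, mul_comm, zpow_mul, zpow_natCast, h1, one_zpow]
    have h2 := hA.2.2 _ (Subgroup.zpowers_le.mpr x.2) hgood
    rw [hA0, Subgroup.card_bot, Nat.card_zpowers, Subgroup.orderOf_coe, hx] at h2
    exact absurd h2 (not_le.mpr (Fact.out : p.Prime).one_lt)
  haveI : Nontrivial (thompsonJ e P) := (Subgroup.nontrivial_iff_ne_bot _).mpr hJ
  haveI := (hP.to_le (thompsonJ_le e P)).center_nontrivial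
  obtain ⟨⟨z, hz⟩, hz1⟩ := exists_ne (1 : Subgroup.center (thompsonJ e P))
  intro hb
  have : (z : G) ∈ zj e P :=
    ⟨z.2, fun y hy => congrArg Subtype.val (Subgroup.mem_center_iff.mp hz ⟨y, hy⟩)⟩
  rw [hb, Subgroup.mem_bot] at this
  exact hz1 (Subtype.ext (Subtype.ext this))

theorem isGood_zero_iff (A : Subgroup G) : IsGood 0 A ↔ IsMulCommutative A := by
  constructor
  · exact fun h => ⟨⟨fun x y => Subtype.ext (h.1 x x.2 y y.2)⟩⟩
  · intro h
    exact ⟨fun x hx y hy => Subgroup.mul_comm_of_mem_isMulCommutative A hx hy, fun x _ => pow_zero x⟩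

theorem isGood_prime_iff (p : ℕ) (A : Subgroup G) : IsGood p A ↔ IsElementaryAbelian p A := by
  constructor
  · exact fun h => ⟨⟨⟨fun x y => Subtype.ext (h.1 x x.2 y y.2)⟩⟩, h.2⟩
  · rintro ⟨h1, h2⟩
    exact ⟨fun x hx y hy => Subgroup.mul_comm_of_mem_isMulCommutative A hx hy, h2⟩

theorem goodMax_top_zero (P : Type u) [Group P] : goodMax 0 (⊤ : Subgroup P) = maxAbelianSubgroups P := by
  ext A
  simp [goodMax, maxAbelianSubgroups, isGood_zero_iff]

theorem goodMax_top_prime (p : ℕ) (P : Type u) [Group P] :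
    goodMax p (⊤ : Subgroup P) = maxElementaryAbelianSubgroups p P := by
  ext A
  simp [goodMax, maxElementaryAbelianSubgroups, isGood_prime_iff]

theorem thompsonJ_zero [Finite G] (P : Subgroup G) : thompsonJ 0 P = thompsonSubgroupAOf P := by
  rw [thompsonSubgroupAOf, thompsonSubgroupA, ← goodMax_top_zero, ← thompsonJ,
    ← thompsonJ_map 0 P.subtype_injective, ← MonoidHom.range_eq_map, Subgroup.range_subtype]

theorem thompsonJ_prime [Finite G] (p : ℕ) (P : Subgroup G) : thompsonJ p P = thompsonSubgroupOf p P := by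
  rw [thompsonSubgroupOf, thompsonSubgroup, ← goodMax_top_prime, ← thompsonJ,
    ← thompsonJ_map p P.subtype_injective, ← MonoidHom.range_eq_map, Subgroup.range_subtype]

theorem zj_zero [Finite G] (P : Subgroup G) : zj 0 P = centerThompsonAOf P := by
  rw [zj, thompsonJ_zero, centerThompsonAOf]

theorem zj_prime [Finite G] (p : ℕ) (P : Subgroup G) : zj p P = centerThompsonOf p P := by
  rw [zj, thompsonJ_prime, centerThompsonOf]

end CfsgLib.ZJ
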