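import Cfsg.Agent.Lib.ZJ.Center
import Cfsg.Agent.Lib.PComplement
import Cfsg.Agent.Lib.Elementary
import Cfsg.Agent.Lib.SylowExtra

/-!
Glauberman's ZJ theorem.
-/

set_option autoImplicit false
set_option maxHeartbeats 400000

namespace CfsgLib.ZJ

open Subgroup Cfsg
open scoped Pointwise commutatorElement

universe u
variable {G : Type u} [Group G] {p : ℕ}

/-- Quadratically acting `p`-elements act inside `O_p` on normal `p`-subgroups. -/
def QuadStable (p : ℕ) (G : Type u) [Group G] : Prop :=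
  ∀ (V : Subgroup G) [V.Normal], IsPGroup p V → ∀ a : G, (∃ k, a ^ p ^ k = 1) →
    ⁅⁅V, Subgroup.zpowers a⁆, Subgroup.zpowers a⁆ = ⊥ →
      (QuotientGroup.mk a : G ⧸ Subgroup.centralizer (V : Set G)) ∈
        pCore p (G ⧸ Subgroup.centralizer (V : Set G))

theorem quadStable_of_isPStableOn (h : ∀ (P : Subgroup G) [P.Normal], IsPGroup p P → IsPStableOn p P) :
    QuadStable p G :=
  fun V _ hV a _ hq => h V hV a hq

theorem exists_pow_eq_one_of_mem {P : Subgroup G} (hP : IsPGroup p P) {a : G} (ha : a ∈ P) :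
    ∃ k, a ^ p ^ k = 1 := by
  obtain ⟨k, hk⟩ := hP ⟨a, ha⟩
  exact ⟨k, by simpa using congrArg Subtype.val hk⟩

/-- An element normalising a `p`-group `B` of class two with commutators of order dividing `p`, and
fixing all its elements of order `p`, fixes `B` if its order is prime to `p`. -/
theorem coprime_fix_of_fix_omega [Finite G] [Fact p.Prime] (hp : p ≠ 2) {B : Subgroup G}
    (hB : IsPGroup p B) {g : G} (hg : (orderOf g).Coprime p) (hgB : ∀ b ∈ B, g * b * g⁻¹ ∈ B)
    (hcen : ∀ b ∈ B, ∀ c ∈ B, ∀ d ∈ B, ⁅b, c⁆ * d = d * ⁅b, c⁆)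
    (hexp : ∀ b ∈ B, ∀ c ∈ B, ⁅b, c⁆ ^ p = 1)
    (hfix : ∀ b ∈ B, b ^ p = 1 → g * b * g⁻¹ = b) : ∀ b ∈ B, g * b * g⁻¹ = b := by
  suffices key : ∀ k : ℕ, ∀ b ∈ B, b ^ p ^ k = 1 → g * b * g⁻¹ = b by
    intro b hb
    obtain ⟨k, hk⟩ := exists_pow_eq_one_of_mem hB hb
    exact key k b hb hk
  intro k
  induction k with
  | zero =>
    intro b hb h
    rw [pow_zero, pow_one] at h
    rw [h, mul_one, mul_inv_cancel]
  | succ k ih =>
    intro b hb h
    have hbp : g * b ^ p * g⁻¹ = b ^ p := ih _ (pow_mem hb p) (by rw [← pow_mul, ← pow_succ']; exact h)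
    set c := b⁻¹ * (g * b * g⁻¹) with hc
    have hcB : c ∈ B := mul_mem (inv_mem hb) (hgB b hb)
    have hcp : c ^ p = 1 := by
      have hd := hcen _ (hgB b hb) _ (inv_mem hb)
      rw [hc, mul_pow_class_two (u := b⁻¹) (v := g * b * g⁻¹) (c := ⁅g * b * g⁻¹, b⁻¹⁆)
        (by rw [commutatorElement_def]; group) (hd _ (inv_mem hb)) (hd _ (hgB b hb)),
        choose_two_pow_eq_one Fact.out hp (Or.inr rfl) (hexp _ (hgB b hb) _ (inv_mem hb)),
        inv_pow, conj_pow, hbp, inv_mul_cancel, one_mul]
    have hgc : g * c * g⁻¹ = c := hfix c hcB hcp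
    have hiter : ∀ n : ℕ, g ^ n * b * (g ^ n)⁻¹ = b * c ^ n := by
      intro n
      induction n with
      | zero => simp
      | succ n ihn =>
        calc g ^ (n + 1) * b * (g ^ (n + 1))⁻¹ = g * (g ^ n * b * (g ^ n)⁻¹) * g⁻¹ := by
              rw [pow_succ']; group
          _ = (g * b * g⁻¹) * (g * c ^ n * g⁻¹) := by rw [ihn]; group
          _ = (b * c) * c ^ n := by rw [← conj_pow (a := g) (b := c), hgc, hc, mul_inv_cancel_left]
          _ = b * c ^ (n + 1) := by rw [mul_assoc, ← pow_succ']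
    have h1 := hiter (orderOf g)
    rw [pow_orderOf_eq_one, inv_one, mul_one, one_mul, left_eq_mul] at h1
    have h2 : c = 1 := orderOf_eq_one_iff.mp (Nat.eq_one_of_dvd_coprimes hg
      (orderOf_dvd_of_pow_eq_one h1) (orderOf_dvd_of_pow_eq_one hcp))
    calc g * b * g⁻¹ = b * c := by rw [hc, mul_inv_cancel_left]
      _ = b := by rw [h2, mul_one]

/-- The intersection with `Z(J(S))` of a normal `p`-subgroup is normal. -/
theorem inf_zj_normal [Finite G] [Fact p.Prime] (hp : p ≠ 2) {e : ℕ} (he : e = 0 ∨ e = p)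
    (hst : QuadStable p G) (S : Sylow p G) (B : Subgroup G) (hBn : B.Normal) (hBp : IsPGroup p B) :
    (B ⊓ zj e (S : Subgroup G)).Normal := by
  induction hn : Nat.card B using Nat.strong_induction_on generalizing B with
  | h n ih =>
    subst hn
    set P : Subgroup G := (S : Subgroup G) with hP
    set Z := zj e P with hZ
    have hBP : B ≤ P := (le_pCore hBp).trans (pCore_le_sylow S)
    by_cases hBZ0 : B ⊓ Z = ⊥
    · rw [hBZ0]; infer_instance
    -- we may suppose that `B` is the normal closure of `B ∩ Z`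
    set B₁ := Subgroup.normalClosure ((B ⊓ Z : Subgroup G) : Set G) with hB₁
    have hB₁le : B₁ ≤ B := Subgroup.normalClosure_le_normal fun x hx => hx.1
    by_cases hB₁eq : B₁ = B
    swap
    · have hlt : Nat.card B₁ < Nat.card B := lt_of_le_of_ne (Subgroup.card_le_of_le hB₁le) fun h =>
        hB₁eq (Subgroup.eq_of_le_of_card_ge hB₁le h.ge)
      have h1 := ih _ hlt B₁ inferInstance (hBp.to_le hB₁le) rfl
      have h2 : B₁ ⊓ Z = B ⊓ Z :=
        le_antisymm (inf_le_inf_right Z hB₁le) (le_inf Subgroup.le_normalClosure inf_le_right)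
      rwa [h2] at h1
    have hgen : ∀ T : Subgroup G, (∀ z ∈ B ⊓ Z, ∀ g : G, g * z * g⁻¹ ∈ T) → B ≤ T := by
      intro T hT
      rw [← hB₁eq, hB₁, Subgroup.normalClosure, Subgroup.closure_le]
      intro y hy
      obtain ⟨a, ha, hc⟩ := Group.mem_conjugatesOfSet_iff.mp hy
      obtain ⟨g, rfl⟩ := isConj_iff.mp hc
      exact hT a ha g
    have hZn : P ≤ Subgroup.normalizer (Z : Set G) :=
      Subgroup.le_normalizer.trans (normalizer_le_normalizer_zj e P)
    haveI := hBn
    haveI hBnil : Group.IsNilpotent B := hBp.isNilpotent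
    haveI : Nontrivial B := (Subgroup.nontrivial_iff_ne_bot B).mpr fun h => hBZ0 (by rw [h, bot_inf_eq])
    -- the derived subgroup
    set B' : Subgroup G := (_root_.commutator B).map B.subtype with hB'
    have hB'n : B'.Normal := inferInstance
    have hB'le : B' ≤ B := Subgroup.map_subtype_le _
    have hB'lt : Nat.card B' < Nat.card B := by
      refine lt_of_le_of_ne (Subgroup.card_le_of_le hB'le) fun h => ?_
      refine (Group.IsSolvable.commutator_lt_top_of_nontrivial B).ne
        (Subgroup.map_injective B.subtype_injective ?_)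
      rw [← MonoidHom.range_eq_map, Subgroup.range_subtype]
      exact Subgroup.eq_of_le_of_card_ge hB'le h.ge
    have hB'Z : (B' ⊓ Z).Normal := ih _ hB'lt B' hB'n (hBp.to_le hB'le) rfl
    have hcB' : ∀ b ∈ B, ∀ c ∈ B, ⁅b, c⁆ ∈ B' := fun b hb c hc =>
      ⟨⁅(⟨b, hb⟩ : B), ⟨c, hc⟩⁆, Subgroup.commutator_mem_commutator (Subgroup.mem_top _) (Subgroup.mem_top _),
        by simp [map_commutatorElement]⟩
    have hcZ : ∀ b ∈ B, ∀ c ∈ B, ⁅b, c⁆ ∈ Z := by
      intro b hb c hc
      let T : Subgroup G :=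
        { carrier := {w | w ∈ B ∧ ∀ c ∈ B, ⁅w, c⁆ ∈ B' ⊓ Z}
          one_mem' := ⟨B.one_mem, fun c _ => by rw [commutatorElement_one_left]; exact one_mem _⟩
          mul_mem' := fun {x y} hx hy => ⟨mul_mem hx.1 hy.1, fun c hc => by
            have h : ⁅x * y, c⁆ = x * ⁅y, c⁆ * x⁻¹ * ⁅x, c⁆ := by simp only [commutatorElement_def]; group
            rw [h]
            exact mul_mem (hB'Z.conj_mem _ (hy.2 c hc) x) (hx.2 c hc)⟩
          inv_mem' := fun {x} hx => ⟨inv_mem hx.1, fun c hc => by
            have h : ⁅x⁻¹, c⁆ = x⁻¹ * ⁅x, c⁆⁻¹ * x⁻¹⁻¹ := by simp only [commutatorElement_def]; group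
            rw [h]
            exact hB'Z.conj_mem _ (inv_mem (hx.2 c hc)) x⁻¹⟩ }
      have hT : B ≤ T := hgen T fun z hz g => by
        refine ⟨hBn.conj_mem z hz.1 g, fun c hc => ?_⟩
        have hd : g⁻¹ * c * g ∈ B := by simpa using hBn.conj_mem c hc g⁻¹
        have h : ⁅g * z * g⁻¹, c⁆ = g * ⁅z, g⁻¹ * c * g⁆ * g⁻¹ := by simp only [commutatorElement_def]; group
        rw [h]
        refine hB'Z.conj_mem _ ⟨hcB' z hz.1 _ hd, ?_⟩ g
        have h1 := (Subgroup.mem_normalizer_iff.mp (hZn (hBP hd)) z⁻¹).mp (Z.inv_mem hz.2)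
        have h2 := Z.mul_mem hz.2 h1
        simpa [commutatorElement_def, mul_assoc] using h2
      exact ((hT hb).2 c hc).2
    -- elements of `B'` are central in `B`
    have hcen : ∀ b ∈ B, ∀ c ∈ B, ∀ d ∈ B, ⁅b, c⁆ * d = d * ⁅b, c⁆ := by
      intro b hb c hc
      have hB'0 : ∀ g : G, g⁻¹ * ⁅b, c⁆ * g ∈ Z := fun g => by
        have h := hB'Z.conj_mem _ ⟨hcB' b hb c hc, hcZ b hb c hc⟩ g⁻¹
        simpa using h.2
      have hT : B ≤ Subgroup.centralizer {⁅b, c⁆} := hgen _ fun z hz g => by
        rw [Subgroup.mem_centralizer_singleton_iff]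
        have h := zj_comm (hB'0 g) hz.2
        calc g * z * g⁻¹ * ⁅b, c⁆ = g * (z * (g⁻¹ * ⁅b, c⁆ * g)) * g⁻¹ := by group
          _ = g * ((g⁻¹ * ⁅b, c⁆ * g) * z) * g⁻¹ := by rw [← h]
          _ = ⁅b, c⁆ * (g * z * g⁻¹) := by group
      exact fun d hd => (Subgroup.mem_centralizer_singleton_iff.mp (hT hd)).symm
    -- `z ^ e` is central in `B` for `z ∈ B ∩ Z`
    have hze : ∀ z ∈ B ⊓ Z, ∀ d ∈ B, Commute (z ^ e) d := by
      rcases he with rfl | rfl
      · intro z _ d _; rw [pow_zero]; exact Commute.one_left d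
      intro z hz
      set F : Subgroup G := (frattini B).map B.subtype with hF
      have hFn : F.Normal := inferInstance
      have hFlt : Nat.card F < Nat.card B := by
        refine lt_of_le_of_ne (Subgroup.card_le_of_le (Subgroup.map_subtype_le _)) fun h => ?_
        have htop : frattini B = ⊤ := Subgroup.map_injective B.subtype_injective (by
          rw [← MonoidHom.range_eq_map, Subgroup.range_subtype]
          exact Subgroup.eq_of_le_of_card_ge (Subgroup.map_subtype_le _) h.ge)
        obtain ⟨M, hM, -⟩ := (eq_top_or_exists_le_coatom (⊥ : Subgroup B)).resolve_left bot_ne_top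
        exact hM.1 (top_le_iff.mp (htop ▸ frattini_le_coatom hM))
      have hFZ : (F ⊓ Z).Normal := ih _ hFlt F hFn (hBp.to_le (Subgroup.map_subtype_le _)) rfl
      have hmem : z ^ e ∈ F ⊓ Z :=
        ⟨⟨⟨z, hz.1⟩ ^ e, pow_mem_frattini_pGroup hBp _, by simp⟩, pow_mem hz.2 e⟩
      have hT : B ≤ Subgroup.centralizer {z ^ e} := hgen _ fun w hw g => by
        rw [Subgroup.mem_centralizer_singleton_iff]
        have h0 := (hFZ.conj_mem _ hmem g⁻¹).2
        rw [inv_inv] at h0
        have h := zj_comm h0 hw.2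
        calc g * w * g⁻¹ * z ^ e = g * (w * (g⁻¹ * z ^ e * g)) * g⁻¹ := by group
          _ = g * ((g⁻¹ * z ^ e * g) * w) * g⁻¹ := by rw [← h]
          _ = z ^ e * (g * w * g⁻¹) := by group
      exact fun d hd => (Subgroup.mem_centralizer_singleton_iff.mp (hT hd)).symm
    have hexp : ∀ b ∈ B, ∀ c ∈ B, ⁅b, c⁆ ^ e = 1 := by
      intro b hb c hc
      let T : Subgroup G :=
        { carrier := {w | w ∈ B ∧ ∀ c ∈ B, ⁅w, c⁆ ^ e = 1}
          one_mem' := ⟨B.one_mem, fun c _ => by rw [commutatorElement_one_left, one_pow]⟩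
          mul_mem' := fun {x y} hx hy => ⟨mul_mem hx.1 hy.1, fun c hc => by
            have h : ⁅x * y, c⁆ = x * ⁅y, c⁆ * x⁻¹ * ⁅x, c⁆ := by simp only [commutatorElement_def]; group
            rw [h, ← hcen y hy.1 c hc x hx.1, mul_inv_cancel_right, Commute.mul_pow, hy.2 c hc, hx.2 c hc,
              one_mul]
            exact hcen y hy.1 c hc _ (hB'le (hcB' x hx.1 c hc))⟩
          inv_mem' := fun {x} hx => ⟨inv_mem hx.1, fun c hc => by
            have h : ⁅x⁻¹, c⁆ = x⁻¹ * ⁅x, c⁆⁻¹ * x⁻¹⁻¹ := by simp only [commutatorElement_def]; group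
            rw [h, conj_pow, inv_pow, hx.2 c hc, inv_one, mul_one, mul_inv_cancel]⟩ }
      have hT : B ≤ T := hgen T fun z hz g => by
        refine ⟨hBn.conj_mem z hz.1 g, fun c hc => ?_⟩
        set d := g⁻¹ * c * g with hd'
        have hd : d ∈ B := by simpa using hBn.conj_mem c hc g⁻¹
        have h : ⁅g * z * g⁻¹, c⁆ = g * ⁅z, d⁆ * g⁻¹ := by simp only [hd', commutatorElement_def]; group
        have hw := hcen z hz.1 d hd
        have h1 : ⁅z, d⁆ ^ e = ⁅z ^ e, d⁆ := by
          have hcz : ∀ m : ℕ, ⁅z ^ m, d⁆ = ⁅z, d⁆ ^ m := by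
            intro m
            induction m with
            | zero => simp [commutatorElement_one_left]
            | succ m ihm =>
              have h2 : ⁅z ^ (m + 1), d⁆ = z * ⁅z ^ m, d⁆ * z⁻¹ * ⁅z, d⁆ := by
                rw [pow_succ']; simp only [commutatorElement_def]; group
              rw [h2, ihm, ← ((show Commute ⁅z, d⁆ z from hw z hz.1).pow_left m).eq,
                mul_inv_cancel_right, ← pow_succ]
          exact (hcz e).symm
        rw [h, conj_pow, h1, commutatorElement_eq_one_iff_mul_comm.mpr (hze z hz d hd), mul_one, mul_inv_cancel]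
      exact (hT hb).2 c hc
    have hcA : ∀ A ∈ goodMax e P, ∀ b ∈ B, ∀ c ∈ B, ⁅b, c⁆ ∈ A := by
      intro A hA b hb c hc
      set D := Subgroup.closure (insert ⁅b, c⁆ (A : Set G)) with hD
      have hDg : IsGood e D := by
        refine isGood_closure ?_ ?_
        · rintro x (rfl | hx) y (rfl | hy)
          · rfl
          · exact (zj_commute hA (hcZ b hb c hc) hy).symm
          · exact zj_commute hA (hcZ b hb c hc) hx
          · exact hA.2.1.1 x hx y hy
        · rintro x (rfl | hx)
          · exact hexp b hb c hc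
          · exact hA.2.1.2 x hx
      have hAD : A ≤ D := fun x hx => Subgroup.subset_closure (Or.inr hx)
      have hDP : D ≤ P := (Subgroup.closure_le P).mpr
        (Set.insert_subset (hBP (hB'le (hcB' b hb c hc))) hA.1)
      rw [Subgroup.eq_of_le_of_card_ge hAD (hA.2.2 D hDP hDg)]
      exact Subgroup.subset_closure (Set.mem_insert _ _)
    -- the elements of `B` of exponent `e`
    let B₀ : Subgroup G :=
      { carrier := {b | b ∈ B ∧ b ^ e = 1}
        one_mem' := ⟨B.one_mem, one_pow e⟩
        mul_mem' := fun {x y} hx hy => ⟨mul_mem hx.1 hy.1, by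
          rw [mul_pow_class_two (u := x) (v := y) (c := ⁅y, x⁆) (by rw [commutatorElement_def]; group)
            (hcen y hy.1 x hx.1 x hx.1) (hcen y hy.1 x hx.1 y hy.1), hx.2, hy.2, one_mul, one_mul,
            choose_two_pow_eq_one Fact.out hp he (hexp y hy.1 x hx.1)]⟩
        inv_mem' := fun {x} hx => ⟨inv_mem hx.1, by rw [inv_pow, hx.2, inv_one]⟩ }
    have hB₀le : B₀ ≤ B := fun x hx => hx.1
    haveI hB₀n : B₀.Normal := ⟨fun x hx g =>
      ⟨hBn.conj_mem x hx.1 g, by rw [conj_pow, hx.2, mul_one, mul_inv_cancel]⟩⟩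
    set L := (Subgroup.normalizer ((B ⊓ Z : Subgroup G) : Set G)).normalCore with hL
    have hCB : Subgroup.centralizer (B : Set G) ≤ Subgroup.normalizer ((B ⊓ Z : Subgroup G) : Set G) := by
      intro g hg
      rw [Subgroup.mem_normalizer_iff]
      intro x
      constructor
      · intro hx
        have h1 : g * x * g⁻¹ = x := by rw [← hg x hx.1, mul_inv_cancel_right]
        rwa [h1]
      · intro hx
        have h1 := hg _ hx.1
        have h2 : x = g * x * g⁻¹ := by
          calc x = g⁻¹ * ((g * x * g⁻¹) * g) := by group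
            _ = g⁻¹ * (g * (g * x * g⁻¹)) := by rw [h1]
            _ = g * x * g⁻¹ := by group
        rwa [h2]
    have hPN : P ≤ Subgroup.normalizer ((B ⊓ Z : Subgroup G) : Set G) := by
      intro g hg
      have h1 := Subgroup.mem_normalizer_iff.mp (hZn hg)
      rw [Subgroup.mem_normalizer_iff]
      intro x
      refine ⟨fun hx => ⟨hBn.conj_mem x hx.1 g, (h1 x).mp hx.2⟩, fun hx => ⟨?_, (h1 x).mpr hx.2⟩⟩
      have h2 := hBn.conj_mem _ hx.1 g⁻¹
      simpa [mul_assoc] using h2
    -- a quadratic member of the family lies in `L`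
    have hquad : ∀ A ∈ goodMax e P, B₀ ≤ Subgroup.normalizer (A : Set G) → A ≤ L := by
      intro A hA hnorm a ha
      have hcomm : ⁅B₀, Subgroup.zpowers a⁆ ≤ A := by
        rw [Subgroup.commutator_le]
        intro b hb x hx
        have hxA : x ∈ A := (Subgroup.zpowers_le.mpr ha) hx
        have h1 := (Subgroup.mem_normalizer_iff.mp (hnorm hb) x).mp hxA
        have h2 := A.mul_mem h1 (A.inv_mem hxA)
        simpa [commutatorElement_def, mul_assoc] using h2
      have hq : ⁅⁅B₀, Subgroup.zpowers a⁆, Subgroup.zpowers a⁆ = ⊥ := by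
        rw [eq_bot_iff, Subgroup.commutator_le]
        intro y hy x hx
        rw [Subgroup.mem_bot, commutatorElement_eq_one_iff_mul_comm]
        exact hA.2.1.1 y (hcomm hy) x ((Subgroup.zpowers_le.mpr ha) hx)
      have h := hst B₀ (hBp.to_le hB₀le) a (exists_pow_eq_one_of_mem S.2 (hA.1 ha)) hq
      set C₀ := Subgroup.centralizer (B₀ : Set G)
      set D := (pCore p (G ⧸ C₀)).comap (QuotientGroup.mk' C₀) with hD
      have haD : a ∈ D := h
      haveI : D.Normal := Subgroup.normal_comap _
      have hDres : pResidual p D ≤ (Subgroup.centralizer (B : Set G)).subgroupOf D := by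
        refine pResidual_le fun g hg => ?_
        obtain ⟨k, hk⟩ := exists_pow_eq_one_of_mem (isPGroup_pCore p) g.2
        have h1 : (QuotientGroup.mk' C₀ (g : G)) = 1 :=
          orderOf_eq_one_iff.mp (Nat.eq_one_of_dvd_coprimes (hg.pow_right k)
            (by rw [← Subgroup.orderOf_coe]; exact orderOf_map_dvd _ _) (orderOf_dvd_of_pow_eq_one hk))
        have h2 : (g : G) ∈ C₀ := (QuotientGroup.eq_one_iff _).mp h1
        intro b hb
        have hgB : ∀ b ∈ B, (g : G) * b * (g : G)⁻¹ ∈ B := fun b hb => hBn.conj_mem b hb g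
        rcases he with rfl | rfl
        · exact h2 b ⟨hb, pow_zero b⟩
        · have h3 := coprime_fix_of_fix_omega hp hBp (by rwa [Subgroup.orderOf_coe]) hgB hcen hexp
            (fun b hb hbp => by rw [← h2 b ⟨hb, hbp⟩, mul_inv_cancel_right]) b hb
          exact (eq_mul_inv_iff_mul_eq.mp h3.symm)
      haveI : ((Subgroup.centralizer (B : Set G)).subgroupOf D).Normal :=
        Subgroup.normal_subgroupOf
      have htop := sylow_sup_eq_top_of_pResidual_le (sylowInfNormal S D) hDres
      have hDle : D ≤ Subgroup.normalizer ((B ⊓ Z : Subgroup G) : Set G) := by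
        intro x hx
        have hx' : (⟨x, hx⟩ : D) ∈ ((Subgroup.centralizer (B : Set G)).subgroupOf D) ⊔
            (sylowInfNormal S D : Subgroup D) := htop ▸ Subgroup.mem_top _
        obtain ⟨u, hu, v, hv, huv⟩ := Subgroup.mem_sup_of_normal_left.mp hx'
        rw [coe_sylowInfNormal] at hv
        have e1 : x = (u : G) * (v : G) := (congrArg Subtype.val huv).symm
        rw [e1]
        exact mul_mem (hCB hu) (hPN hv)
      exact (Subgroup.normal_le_normalCore.mpr hDle) haD
    have hrep : ∀ A ∈ goodMax e P, ¬ B₀ ≤ Subgroup.normalizer (A : Set G) →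
        ∃ A' ∈ goodMax e P, A ⊓ B₀ < A' ⊓ B₀ ∧ A' ≤ Subgroup.normalizer (A : Set G) := fun A hA =>
      replacement hp he S.2 (hB₀le.trans hBP) (Subgroup.le_normalizer_of_normal ..)
        (fun b hb c hc d hd => hcen b hb.1 c hc.1 d hd.1) hA (fun b hb c hc => hcA A hA b hb.1 c hc.1)
    have hsome : ∃ A ∈ goodMax e P, A ≤ L := by
      obtain ⟨A, hA, hmax⟩ := Set.exists_max_image (goodMax e P) (fun A => Nat.card ↥(A ⊓ B₀))
        (Set.toFinite _) (goodMax_nonempty e P)
      refine ⟨A, hA, hquad A hA ?_⟩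
      by_contra hnot
      obtain ⟨A', hA', hlt, -⟩ := hrep A hA hnot
      have := hmax A' hA'
      exact hlt.ne (Subgroup.eq_of_le_of_card_ge hlt.le this)
    haveI : L.Normal := Subgroup.normalCore_normal _
    -- Frattini argument
    have hfrat : Subgroup.normalizer ((P ⊓ L : Subgroup G) : Set G) ⊔ L = ⊤ := by
      have h := Sylow.normalizer_sup_eq_top (sylowInfNormal S L)
      rwa [coe_sylowInfNormal, Subgroup.subgroupOf_map_subtype] at h
    have hfamily : ∀ n ∈ Subgroup.normalizer ((P ⊓ L : Subgroup G) : Set G),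
        ∀ A ∈ goodMax e P, A ≤ L → MulAut.conj n • A ∈ goodMax e P ∧ MulAut.conj n • A ≤ L := by
      intro n hn A hA hAL
      have hle : MulAut.conj n • A ≤ P ⊓ L := fun x hx => by
        have h1 := (Subgroup.mem_normalizer_iff.mp hn (n⁻¹ * x * n)).mp
          ⟨hA.1 (mem_conj_smul_iff.mp hx), hAL (mem_conj_smul_iff.mp hx)⟩
        simpa [mul_assoc] using h1
      refine ⟨⟨hle.trans inf_le_left, ?_, fun D hD hDg => ?_⟩, hle.trans inf_le_right⟩
      · rw [Subgroup.pointwise_smul_def]
        exact isGood_map _ hA.2.1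
      · rw [card_conj_smul]
        exact hA.2.2 D hD hDg
    by_cases hall : ∀ A ∈ goodMax e P, A ≤ L
    · -- `J(P)` is normalised by `N(P ∩ L)`
      have hnJ : Subgroup.normalizer ((P ⊓ L : Subgroup G) : Set G) ≤
          Subgroup.normalizer ((B ⊓ Z : Subgroup G) : Set G) := by
        have hJ : ∀ n ∈ Subgroup.normalizer ((P ⊓ L : Subgroup G) : Set G), ∀ x ∈ Z, n * x * n⁻¹ ∈ Z := by
          intro n hn x hx
          have hJle : ∀ m ∈ Subgroup.normalizer ((P ⊓ L : Subgroup G) : Set G),
              ∀ y ∈ thompsonJ e P, m * y * m⁻¹ ∈ thompsonJ e P := by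
            intro m hm y hy
            have h1 : thompsonJ e P ≤ (thompsonJ e P).comap (MulAut.conj m).toMonoidHom := by
              refine sSup_le fun A hA z hz => ?_
              exact le_thompsonJ (hfamily m hm A hA (hall A hA)).1
                (mem_conj_smul_iff.mpr (by simpa [mul_assoc] using hz))
            exact h1 hy
          refine ⟨hJle n hn x hx.1, fun y hy => ?_⟩
          have h1 := hx.2 _ (hJle n⁻¹ (inv_mem hn) y hy)
          rw [inv_inv] at h1
          calc y * (n * x * n⁻¹) = n * ((n⁻¹ * y * n) * x) * n⁻¹ := by group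
            _ = n * (x * (n⁻¹ * y * n)) * n⁻¹ := by rw [h1]
            _ = (n * x * n⁻¹) * y := by group
        intro n hn
        rw [Subgroup.mem_normalizer_iff]
        intro x
        refine ⟨fun hx => ⟨hBn.conj_mem x hx.1 n, hJ n hn x hx.2⟩, fun hx => ?_⟩
        have h1 := hBn.conj_mem _ hx.1 n⁻¹
        have h2 := hJ n⁻¹ (inv_mem hn) _ hx.2
        constructor
        · simpa [mul_assoc] using h1
        · simpa [mul_assoc] using h2
      refine Subgroup.normalizer_eq_top_iff.mp (top_le_iff.mp ?_)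
      rw [← hfrat]
      exact sup_le hnJ (Subgroup.normalCore_le _)
    · exfalso
      push Not at hall
      obtain ⟨A, ⟨hA, hAL⟩, hmax⟩ := Set.exists_max_image
        {A | A ∈ goodMax e P ∧ ¬ A ≤ L} (fun A => Nat.card ↥(A ⊓ B₀)) (Set.toFinite _)
        (let ⟨A, hA, hAL⟩ := hall; ⟨A, hA, hAL⟩)
      refine hAL (hquad A hA ?_)
      by_contra hnot
      obtain ⟨A', hA', hlt, hA'N⟩ := hrep A hA hnot
      have hA'L : A' ≤ L := by
        by_contra h
        exact hlt.ne (Subgroup.eq_of_le_of_card_ge hlt.le (hmax A' ⟨hA', h⟩))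
      have hBC : B ≤ Subgroup.centralizer (A' : Set G) := hgen _ fun z hz g y hy => by
        have hg : g ∈ Subgroup.normalizer ((P ⊓ L : Subgroup G) : Set G) ⊔ L := hfrat ▸ Subgroup.mem_top g
        obtain ⟨n, hn, l, hl, rfl⟩ := Subgroup.mem_sup_of_normal_right.mp hg
        have hl' := Subgroup.normalCore_le _ hl
        set z' := l * z * l⁻¹ with hz'
        have hz'2 : z' ∈ B ⊓ Z := (Subgroup.mem_normalizer_iff.mp hl' z).mp hz
        have hy' : n⁻¹ * y * n ∈ MulAut.conj n⁻¹ • A' :=
          mem_conj_smul_iff.mpr (by simpa [mul_assoc] using hy)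
        have h1 := zj_commute (hfamily n⁻¹ (inv_mem hn) A' hA' hA'L).1 hz'2.2 hy'
        calc y * (n * l * z * (n * l)⁻¹) = n * ((n⁻¹ * y * n) * z') * n⁻¹ := by rw [hz']; group
          _ = n * (z' * (n⁻¹ * y * n)) * n⁻¹ := by rw [h1]
          _ = (n * l * z * (n * l)⁻¹) * y := by rw [hz']; group
      refine hnot (le_trans (fun b hb => ?_) hA'N)
      set D := Subgroup.closure (insert b (A' : Set G)) with hD
      have hDg : IsGood e D := by
        refine isGood_closure ?_ ?_
        · rintro x (rfl | hx) y (rfl | hy)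
          · rfl
          · exact (hBC hb.1 y hy).symm
          · exact hBC hb.1 x hx
          · exact hA'.2.1.1 x hx y hy
        · rintro x (rfl | hx)
          · exact hb.2
          · exact hA'.2.1.2 x hx
      have hAD : A' ≤ D := fun x hx => Subgroup.subset_closure (Or.inr hx)
      have hDP : D ≤ P := (Subgroup.closure_le P).mpr (Set.insert_subset (hBP hb.1) hA'.1)
      rw [Subgroup.eq_of_le_of_card_ge hAD (hA'.2.2 D hDP hDg)]
      exact Subgroup.subset_closure (Set.mem_insert _ _)

/-- **Glauberman's ZJ theorem.** -/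
theorem zj_normal [Finite G] [Fact p.Prime] (hp : p ≠ 2) {e : ℕ} (he : e = 0 ∨ e = p)
    (hc : Subgroup.centralizer (pCore p G : Set G) ≤ pCore p G) (hst : QuadStable p G) (S : Sylow p G) :
    (zj e (S : Subgroup G)).Normal := by
  set Z := zj e (S : Subgroup G) with hZ
  set O := pCore p G with hO
  set C := Subgroup.centralizer (O : Set G) with hC
  have hle : Z ≤ O := by
    intro z hz
    have hOS : O ≤ (S : Subgroup G) := pCore_le_sylow S
    have hq : ⁅⁅O, Subgroup.zpowers z⁆, Subgroup.zpowers z⁆ = ⊥ := by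
      have hcomm : ⁅O, Subgroup.zpowers z⁆ ≤ Z := by
        rw [Subgroup.commutator_le]
        intro b hb x hx
        have hxZ : x ∈ Z := (Subgroup.zpowers_le.mpr hz) hx
        have h1 := (Subgroup.mem_normalizer_iff.mp
          ((Subgroup.le_normalizer.trans (normalizer_le_normalizer_zj e _)) (hOS hb)) x).mp hxZ
        have h2 := Z.mul_mem h1 (Z.inv_mem hxZ)
        simpa [commutatorElement_def, mul_assoc] using h2
      rw [eq_bot_iff, Subgroup.commutator_le]
      intro y hy x hx
      rw [Subgroup.mem_bot, commutatorElement_eq_one_iff_mul_comm]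
      exact zj_comm (hcomm hy) ((Subgroup.zpowers_le.mpr hz) hx)
    have h := hst O (isPGroup_pCore p) z (exists_pow_eq_one_of_mem S.2 (zj_le e _ hz)) hq
    have hD : IsPGroup p ((pCore p (G ⧸ C)).comap (QuotientGroup.mk' C)) :=
      (isPGroup_pCore (G := G ⧸ C) p).comap_of_ker_isPGroup _ (by
        rw [QuotientGroup.ker_mk']
        exact (isPGroup_pCore p).to_le hc)
    exact le_pCore (N := (pCore p (G ⧸ C)).comap (QuotientGroup.mk' C)) hD h
  have := inf_zj_normal hp he hst S O inferInstance (isPGroup_pCore p)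
  rwa [← hZ, inf_eq_right.mpr hle] at this

theorem zj_characteristic [Finite G] [Fact p.Prime] (hp : p ≠ 2) {e : ℕ} (he : e = 0 ∨ e = p)
    (hc : Subgroup.centralizer (pCore p G : Set G) ≤ pCore p G) (hst : QuadStable p G) (S : Sylow p G) :
    (zj e (S : Subgroup G)).Characteristic := by
  have hn := zj_normal hp he hc hst S
  refine Subgroup.characteristic_iff_map_eq.mpr fun φ => ?_
  obtain ⟨g, hg⟩ := MulAction.exists_smul_eq G S
    (S.mapSurjective (f := φ.toMonoidHom) φ.surjective)
  have h1 : MulAut.conj g • (S : Subgroup G) = (S : Subgroup G).map φ.toMonoidHom := by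
    rw [← Sylow.coe_subgroup_smul, hg]
    rfl
  rw [← zj_map e φ.injective, ← h1, zj_conj]
  refine le_antisymm (fun x hx => ?_) (fun x hx => ?_)
  · have h2 := hn.conj_mem _ (mem_conj_smul_iff.mp hx) g
    simpa [mul_assoc] using h2
  · refine mem_conj_smul_iff.mpr ?_
    simpa using hn.conj_mem x hx g⁻¹

end CfsgLib.ZJ
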