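import Cfsg.Agent.Lib.Coprime
import Cfsg.Agent.Lib.Products
import Mathlib.GroupTheory.Nilpotent
import Mathlib.GroupTheory.PGroup
import Mathlib.Data.Nat.Choose.Dvd
import Mathlib.Data.Set.Finite.Lemmas

/-!
Abelian subgroups of largest order (optionally of bounded exponent) and Glauberman's replacement
theorem.  The exponent parameter `e` is `0` (no condition) or the prime `p` (elementary abelian).
-/

set_option autoImplicit false
set_option maxHeartbeats 400000

namespace CfsgLib.ZJ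

open Subgroup
open scoped Pointwise commutatorElement

universe u
variable {G : Type u} [Group G]

/-- Abelian, of exponent dividing `e`. -/
def IsGood (e : ℕ) (A : Subgroup G) : Prop :=
  (∀ x ∈ A, ∀ y ∈ A, x * y = y * x) ∧ ∀ x ∈ A, x ^ e = 1

/-- The good subgroups of `P` of largest order. -/
def goodMax (e : ℕ) (P : Subgroup G) : Set (Subgroup G) :=
  {A | A ≤ P ∧ IsGood e A ∧ ∀ B : Subgroup G, B ≤ P → IsGood e B → Nat.card B ≤ Nat.card A}

theorem isGood_bot (e : ℕ) : IsGood e (⊥ : Subgroup G) :=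
  ⟨fun x hx y hy => by rw [Subgroup.mem_bot.mp hx, Subgroup.mem_bot.mp hy],
    fun x hx => by rw [Subgroup.mem_bot.mp hx, one_pow]⟩

theorem goodMax_nonempty [Finite G] (e : ℕ) (P : Subgroup G) : (goodMax e P).Nonempty := by
  obtain ⟨A, ⟨hA, hg⟩, hmax⟩ := Set.exists_max_image
    {A : Subgroup G | A ≤ P ∧ IsGood e A} (fun A => Nat.card A) (Set.toFinite _)
    ⟨⊥, bot_le, isGood_bot e⟩
  exact ⟨A, hA, hg, fun B hB hBg => hmax B ⟨hB, hBg⟩⟩

theorem isGood_closure {e : ℕ} {S : Set G} (hc : ∀ x ∈ S, ∀ y ∈ S, x * y = y * x)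
    (he : ∀ x ∈ S, x ^ e = 1) : IsGood e (Subgroup.closure S) := by
  haveI := Subgroup.isMulCommutative_closure hc
  have hcomm : ∀ x ∈ Subgroup.closure S, ∀ y ∈ Subgroup.closure S, x * y = y * x := fun x hx y hy =>
    Subgroup.mul_comm_of_mem_isMulCommutative (Subgroup.closure S) hx hy
  refine ⟨hcomm, fun x hx => ?_⟩
  induction hx using Subgroup.closure_induction with
  | mem z hz => exact he z hz
  | one => exact one_pow e
  | mul a b ha hb iha ihb => rw [Commute.mul_pow (hcomm a ha b hb), iha, ihb, one_mul]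
  | inv a _ iha => rw [inv_pow, iha, inv_one]

/-- The power formula when the commutator is central. -/
theorem mul_pow_class_two {u v c : G} (hvu : v * u = c * (u * v)) (hu : Commute c u) (hv : Commute c v)
    (n : ℕ) : (u * v) ^ n = u ^ n * v ^ n * c ^ n.choose 2 := by
  have hswap : ∀ k : ℕ, v ^ k * u = c ^ k * (u * v ^ k) := by
    intro k
    induction k with
    | zero => simp
    | succ k ih =>
      calc v ^ (k + 1) * u = v ^ k * (v * u) := by rw [pow_succ, mul_assoc]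
        _ = v ^ k * (c * (u * v)) := by rw [hvu]
        _ = c * (v ^ k * u) * v := by
          rw [← mul_assoc, ← (hv.pow_right k).eq]; group
        _ = c * (c ^ k * (u * v ^ k)) * v := by rw [ih]
        _ = c ^ (k + 1) * (u * v ^ (k + 1)) := by
          rw [pow_succ' c k, pow_succ v k]; simp only [mul_assoc]
  induction n with
  | zero => simp
  | succ n ih =>
    have hcu : Commute (c ^ n.choose 2) (u * v) := (hu.mul_right hv).pow_left _
    calc (u * v) ^ (n + 1) = u ^ n * v ^ n * c ^ n.choose 2 * (u * v) := by rw [pow_succ, ih]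
      _ = u ^ n * ((v ^ n * u) * v) * c ^ n.choose 2 := by
        rw [mul_assoc _ (c ^ _), hcu.eq]; simp only [mul_assoc]
      _ = u ^ n * (c ^ n * (u * v ^ n) * v) * c ^ n.choose 2 := by rw [hswap]
      _ = u ^ (n + 1) * v ^ (n + 1) * (c ^ n * c ^ n.choose 2) := by
        have h1 : Commute (c ^ n) (u * v ^ n * v) := ((hu.mul_right (hv.pow_right n)).mul_right hv).pow_left n
        rw [mul_assoc (c ^ n) (u * v ^ n) v, h1.eq, pow_succ u n, pow_succ v n]
        simp only [mul_assoc]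
      _ = _ := by
        rw [← pow_add, Nat.choose_succ_succ', Nat.choose_one_right]

theorem choose_two_pow_eq_one {c : G} {p e : ℕ} (hp : p.Prime) (hp2 : p ≠ 2) (he : e = 0 ∨ e = p)
    (hc : c ^ e = 1) : c ^ e.choose 2 = 1 := by
  rcases he with rfl | rfl
  · simp
  · have h : e ∣ e.choose 2 := hp.dvd_choose_self two_ne_zero (lt_of_le_of_ne hp.two_le (Ne.symm hp2))
    obtain ⟨k, hk⟩ := h
    rw [hk, pow_mul, hc, one_pow]

theorem relIndex_sup_of_le_normalizer [Finite G] {H K : Subgroup G}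
    (hK : K ≤ Subgroup.normalizer (H : Set G)) : H.relIndex (H ⊔ K) = H.relIndex K := by
  set N := Subgroup.normalizer (H : Set G)
  haveI : (H.subgroupOf N).Normal := Subgroup.normal_in_normalizer
  have h := Subgroup.relIndex_sup_left (K := H.subgroupOf N) (H := K.subgroupOf N)
  rwa [← Subgroup.subgroupOf_sup Subgroup.le_normalizer hK, Subgroup.relIndex_subgroupOf
    (sup_le Subgroup.le_normalizer hK), Subgroup.relIndex_subgroupOf hK] at h

theorem card_mul_eq_of_le_normalizer [Finite G] {H K : Subgroup G}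
    (hK : K ≤ Subgroup.normalizer (H : Set G)) :
    Nat.card H * Nat.card K = Nat.card ↥(H ⊔ K) * Nat.card ↥(H ⊓ K) := by
  rw [← Products.card_inf_mul_relIndex H K,
    ← Products.card_mul_relIndex_of_le (le_sup_left : H ≤ H ⊔ K), relIndex_sup_of_le_normalizer hK]
  ring

theorem exists_mem_normalizer_normalizer [Finite G] {p : ℕ} [Fact p.Prime] {P B A : Subgroup G}
    (hP : IsPGroup p P) (hBP : B ≤ P) (hBn : P ≤ Subgroup.normalizer (B : Set G))
    (hnot : ¬ B ≤ Subgroup.normalizer (A : Set G)) :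
    ∃ b ∈ B, b ∉ Subgroup.normalizer (A : Set G) ∧
      ∀ x, x ∈ P ⊓ Subgroup.normalizer (A : Set G) ↔ b * x * b⁻¹ ∈ P ⊓ Subgroup.normalizer (A : Set G) := by
  set N := P ⊓ Subgroup.normalizer (A : Set G) with hN
  set X := B ⊔ N with hX
  have hXP : X ≤ P := sup_le hBP inf_le_left
  haveI : Group.IsNilpotent X := (hP.to_le hXP).isNilpotent
  have hne : N.subgroupOf X ≠ ⊤ := fun e =>
    hnot ((le_sup_left.trans (Subgroup.subgroupOf_eq_top.mp e)).trans inf_le_right)
  have h2 := Group.normalizerCondition_of_isNilpotent _ (lt_top_iff_ne_top.mpr hne)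
  rw [← Subgroup.subgroupOf_normalizer_eq (le_sup_right : N ≤ X)] at h2
  obtain ⟨⟨x, hxX⟩, hxN, hx⟩ := SetLike.exists_of_lt h2
  rw [Subgroup.mem_subgroupOf] at hxN hx
  obtain ⟨w, hw, a, ha, hwa⟩ := mem_sup_of_le_normalizer (A := N) (W := B) (inf_le_left.trans hBn) hxX
  have hbN : w ∈ Subgroup.normalizer (N : Set G) := by
    have h3 : w = x * a⁻¹ := by rw [← hwa, mul_inv_cancel_right]
    rw [h3]
    exact mul_mem hxN (inv_mem (Subgroup.le_normalizer ha))
  refine ⟨w, hw, fun h => hx ?_, Subgroup.mem_normalizer_iff.mp hbN⟩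
  have h4 : w * a ∈ N := mul_mem (show w ∈ N from ⟨hBP hw, h⟩) ha
  rwa [hwa] at h4

theorem commute_mul_of_commute {c u v : G} (h1 : c * u = u * c) (h2 : c * v = v * c) :
    c * (u * v) = u * v * c :=
  (Commute.mul_right (show Commute c u from h1) (show Commute c v from h2))

/-- **Glauberman's replacement theorem.** -/
theorem replacement [Finite G] {p : ℕ} [Fact p.Prime] (hp : p ≠ 2) {e : ℕ} (he : e = 0 ∨ e = p)
    {P B A : Subgroup G} (hP : IsPGroup p P) (hBP : B ≤ P) (hBn : P ≤ Subgroup.normalizer (B : Set G))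
    (hcen : ∀ b ∈ B, ∀ c ∈ B, ∀ d ∈ B, ⁅b, c⁆ * d = d * ⁅b, c⁆)
    (hA : A ∈ goodMax e P) (hBA : ∀ b ∈ B, ∀ c ∈ B, ⁅b, c⁆ ∈ A)
    (hnot : ¬ B ≤ Subgroup.normalizer (A : Set G)) :
    ∃ A' ∈ goodMax e P, A ⊓ B < A' ⊓ B ∧ A' ≤ Subgroup.normalizer (A : Set G) := by
  obtain ⟨hAP, ⟨hAc, hAe⟩, hAmax⟩ := hA
  obtain ⟨b, hbB, hbA, hbN⟩ := exists_mem_normalizer_normalizer hP hBP hBn hnot
  set N := P ⊓ Subgroup.normalizer (A : Set G) with hN
  set A₁ : Subgroup G := MulAut.conj b • A with hA₁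
  have hφA : ∀ a ∈ A, b * a * b⁻¹ ∈ A₁ := fun a ha => mem_conj_smul_iff.mpr (by simpa [mul_assoc] using ha)
  have hA₁mem : ∀ v ∈ A₁, b⁻¹ * v * b ∈ A := fun v hv => mem_conj_smul_iff.mp hv
  have hA₁c : ∀ x ∈ A₁, ∀ y ∈ A₁, x * y = y * x := fun x hx y hy => by
    have := hAc _ (hA₁mem x hx) _ (hA₁mem y hy)
    calc x * y = b * ((b⁻¹ * x * b) * (b⁻¹ * y * b)) * b⁻¹ := by group
      _ = b * ((b⁻¹ * y * b) * (b⁻¹ * x * b)) * b⁻¹ := by rw [this]
      _ = y * x := by group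
  have hAN : A ≤ N := le_inf hAP Subgroup.le_normalizer
  have hA₁N : A₁ ≤ N := fun v hv => by
    have h := (hbN _).mp (hAN (hA₁mem v hv))
    simpa [mul_assoc] using h
  set C := A ⊓ A₁ with hC
  have hcomm : ∀ u ∈ A, ∀ v ∈ A₁, ⁅u, v⁆ ∈ C := by
    intro u hu v hv
    constructor
    · have h1 : v * u⁻¹ * v⁻¹ ∈ A :=
        (Subgroup.mem_normalizer_iff.mp (hA₁N hv).2 _).mp (A.inv_mem hu)
      have h2 := A.mul_mem hu h1
      simpa [commutatorElement_def, mul_assoc] using h2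
    · -- `A` normalises its conjugate
      have hmem : b⁻¹ * u * b ∈ N := by
        refine (hbN _).mpr ?_
        have h3 : b * (b⁻¹ * u * b) * b⁻¹ = u := by group
        rw [h3]; exact hAN hu
      have h1 : (b⁻¹ * u * b) * (b⁻¹ * v * b) * (b⁻¹ * u * b)⁻¹ ∈ A :=
        (Subgroup.mem_normalizer_iff.mp hmem.2 _).mp (hA₁mem v hv)
      have h2 : u * v * u⁻¹ ∈ A₁ := mem_conj_smul_iff.mpr (by
        have h4 : b⁻¹ * (u * v * u⁻¹) * b = (b⁻¹ * u * b) * (b⁻¹ * v * b) * (b⁻¹ * u * b)⁻¹ := by group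
        rw [h4]; exact h1)
      have h5 := A₁.mul_mem h2 (A₁.inv_mem hv)
      simpa [commutatorElement_def, mul_assoc] using h5
  have hcA : ∀ c ∈ C, ∀ a ∈ A, c * a = a * c := fun c hc a ha => hAc c hc.1 a ha
  have hcA₁ : ∀ c ∈ C, ∀ a ∈ A₁, c * a = a * c := fun c hc a ha => hA₁c c hc.2 a ha
  let ξ : G → G := fun a => a⁻¹ * (b * a * b⁻¹)
  have hξB : ∀ a ∈ A, ξ a ∈ B := fun a ha => by
    have h1 := (Subgroup.mem_normalizer_iff.mp (hBn (P.inv_mem (hAP ha))) b).mp hbB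
    have h2 := B.mul_mem h1 (B.inv_mem hbB)
    simpa [ξ, mul_assoc] using h2
  have hcξ : ∀ c ∈ C, ∀ a ∈ A, c * ξ a = ξ a * c := fun c hc a ha =>
    commute_mul_of_commute (hcA c hc _ (A.inv_mem ha)) (hcA₁ c hc _ (hφA a ha))
  have hξξ : ∀ a ∈ A, ∀ a' ∈ A, ξ a * ξ a' = ξ a' * ξ a := by
    intro a ha a' ha'
    set f := b * a * b⁻¹ with hf
    set f' := b * a' * b⁻¹ with hf'
    set r := ⁅a, f'⁆ with hr
    set q := ⁅f, a'⁆ with hq
    set x := ξ a with hx
    set y := ξ a' with hy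
    set w := ⁅x, y⁆ with hw
    have hf1 : f ∈ A₁ := hφA a ha
    have hf1' : f' ∈ A₁ := hφA a' ha'
    have hrC : r ∈ C := hcomm a ha f' hf1'
    have hqC : q ∈ C := by
      have h := hcomm a' ha' f hf1
      rw [hq, ← commutatorElement_inv]
      exact inv_mem h
    have hay : ⁅a, y⁆ = r := by
      have e1 : a'⁻¹ * a = a * a'⁻¹ := hAc _ (A.inv_mem ha') a ha
      have e2 : r * a' = a' * r := hcA r hrC a' ha'
      calc ⁅a, y⁆ = (a * a'⁻¹) * f' * a⁻¹ * f'⁻¹ * a' := by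
            simp only [hy, ξ, commutatorElement_def]; rw [← hf']; group
        _ = (a'⁻¹ * a) * f' * a⁻¹ * f'⁻¹ * a' := by rw [e1]
        _ = a'⁻¹ * (r * a') := by simp only [hr, commutatorElement_def]; group
        _ = r := by rw [e2]; group
    have hfy : ⁅f, y⁆ = q⁻¹ := by
      have e1 : f * f' = f' * f := hA₁c f hf1 f' hf1'
      have e2 : q⁻¹ * a' = a' * q⁻¹ := hcA _ (inv_mem hqC) a' ha'
      have e3 : f' * f⁻¹ = f⁻¹ * f' := hA₁c f' hf1' _ (A₁.inv_mem hf1)
      calc ⁅f, y⁆ = f * a'⁻¹ * (f' * f⁻¹) * f'⁻¹ * a' := by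
            simp only [hy, ξ, commutatorElement_def]; rw [← hf']; group
        _ = f * a'⁻¹ * (f⁻¹ * f') * f'⁻¹ * a' := by rw [e3]
        _ = a'⁻¹ * (a' * f * a'⁻¹ * f⁻¹) * a' := by group
        _ = a'⁻¹ * (q⁻¹ * a') := by simp only [hq, commutatorElement_def]; group
        _ = q⁻¹ := by rw [e2]; group
    have hxa' : ⁅x, a'⁆ = q := by
      have e1 : a * a'  = a' * a := hAc a ha a' ha'
      have e2 : q * a = a * q := hcA q hqC a ha
      calc ⁅x, a'⁆ = a⁻¹ * q * (a' * a * a'⁻¹) := by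
            simp only [hx, ξ, hq, commutatorElement_def]; rw [← hf]; group
        _ = a⁻¹ * q * (a * a' * a'⁻¹) := by rw [e1]
        _ = a⁻¹ * (q * a) := by group
        _ = q := by rw [e2]; group
    have hwval : w = q⁻¹ * r⁻¹ := by
      have e2 : q⁻¹ * a = a * q⁻¹ := hcA _ (inv_mem hqC) a ha
      have e3 : r⁻¹ * a = a * r⁻¹ := hcA _ (inv_mem hrC) a ha
      calc w = a⁻¹ * ⁅f, y⁆ * (⁅a, y⁆)⁻¹ * a := by
            simp only [hw, hx, ξ, commutatorElement_def]; rw [← hf]; group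
        _ = a⁻¹ * (q⁻¹ * (r⁻¹ * a)) := by rw [hfy, hay]; group
        _ = a⁻¹ * (q⁻¹ * (a * r⁻¹)) := by rw [e3]
        _ = a⁻¹ * ((q⁻¹ * a) * r⁻¹) := by group
        _ = q⁻¹ * r⁻¹ := by rw [e2]; group
    have hxB : x ∈ B := hξB a ha
    have hyB : y ∈ B := hξB a' ha'
    have hwC : w ∈ C := hwval ▸ mul_mem (inv_mem hqC) (inv_mem hrC)
    -- conjugation by `b` fixes `w`
    have hbw : b * w * b⁻¹ = w := by rw [← hcen x hxB y hyB b hbB, mul_inv_cancel_right]
    -- the effect of `b` on `x` and `y`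
    have hshift : ∀ z ∈ B, ∃ c ∈ C, b * z * b⁻¹ = c * z := by
      intro z hz
      refine ⟨⁅b, z⁆, ⟨hBA b hbB z hz, mem_conj_smul_iff.mpr ?_⟩, by rw [commutatorElement_def]; group⟩
      have h1 := hcen b hbB z hz b hbB
      have h2 : b⁻¹ * ⁅b, z⁆ * b = ⁅b, z⁆ := by rw [mul_assoc, h1, inv_mul_cancel_left]
      rw [h2]
      exact hBA b hbB z hz
    obtain ⟨cx, hcx, ex⟩ := hshift x hxB
    obtain ⟨cy, hcy, ey⟩ := hshift y hyB
    have hbr : b * r * b⁻¹ = w * r := by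
      have hcyf : cy * f = f * cy := hcA₁ cy hcy f hf1
      have hcyy : cy * y = y * cy := hcξ cy hcy a' ha'
      have e3 : r * a = a * r := hcA r hrC a ha
      have e4 : w * a = a * w := hcA w hwC a ha
      have ef : f = a * x := by simp only [hx, ξ]; rw [← hf]; group
      have hcf : f * cy * f⁻¹ = cy := by rw [← hcyf, mul_inv_cancel_right]
      calc b * r * b⁻¹ = ⁅f, b * y * b⁻¹⁆ := by
            rw [← hay]; simp only [hf, commutatorElement_def]; group
        _ = (f * cy * f⁻¹) * (f * y * f⁻¹ * y⁻¹) * cy⁻¹ := by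
            rw [ey]; simp only [commutatorElement_def]; group
        _ = cy * ⁅f, y⁆ * cy⁻¹ := by rw [hcf, ← commutatorElement_def]
        _ = ⁅f, y⁆ := by
            rw [hfy, hcA cy hcy _ (inv_mem hqC).1, mul_inv_cancel_right]
        _ = a * w * a⁻¹ * ⁅a, y⁆ := by
            rw [ef]; simp only [hw, commutatorElement_def]; group
        _ = w * r := by rw [← e4, mul_inv_cancel_right, hay]
    have hbq : b * q * b⁻¹ = q * w := by
      have hcxy : cx * f' = f' * cx := hcA₁ cx hcx f' hf1'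
      have hcxq : cx * q = q * cx := hcA cx hcx q hqC.1
      have e4 : w * a' = a' * w := hcA w hwC a' ha'
      have ef : f' = a' * y := by simp only [hy, ξ]; rw [← hf']; group
      calc b * q * b⁻¹ = ⁅b * x * b⁻¹, f'⁆ := by
            rw [← hxa']; simp only [hf', commutatorElement_def]; group
        _ = cx * ⁅x, f'⁆ * (f' * cx⁻¹ * f'⁻¹) := by
            rw [ex]; simp only [commutatorElement_def]; group
        _ = cx * ⁅x, f'⁆ * cx⁻¹ := by
            rw [show f' * cx⁻¹ * f'⁻¹ = cx⁻¹ by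
              rw [← hcA₁ _ (inv_mem hcx) f' hf1', mul_inv_cancel_right]]
        _ = cx * (⁅x, a'⁆ * (a' * w * a'⁻¹)) * cx⁻¹ := by
            rw [ef]; simp only [hw, commutatorElement_def]; group
        _ = cx * (q * w) * cx⁻¹ := by rw [← e4, mul_inv_cancel_right, hxa']
        _ = q * w := by rw [hcA cx hcx _ (mul_mem hqC.1 hwC.1), mul_inv_cancel_right]
    have hw2 : w * w = 1 := by
      have h1 : b * w * b⁻¹ = (q * w)⁻¹ * (w * r)⁻¹ := by
        rw [← hbq, ← hbr, hwval]; group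
      rw [hbw] at h1
      have h2 : r⁻¹ * w⁻¹ = w⁻¹ * r⁻¹ := hAc _ (A.inv_mem hrC.1) _ (A.inv_mem hwC.1)
      have h3 : w = w⁻¹ * w⁻¹ * w := by
        calc w = (q * w)⁻¹ * (w * r)⁻¹ := h1
          _ = w⁻¹ * q⁻¹ * (r⁻¹ * w⁻¹) := by group
          _ = w⁻¹ * q⁻¹ * (w⁻¹ * r⁻¹) := by rw [h2]
          _ = w⁻¹ * ((q⁻¹ * w⁻¹) * r⁻¹) := by group
          _ = w⁻¹ * ((w⁻¹ * q⁻¹) * r⁻¹) := by rw [hAc _ (A.inv_mem hqC.1) _ (A.inv_mem hwC.1)]
          _ = w⁻¹ * w⁻¹ * (q⁻¹ * r⁻¹) := by group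
          _ = w⁻¹ * w⁻¹ * w := by rw [← hwval]
      have h4 := congrArg (fun t => w * (w * (t * w⁻¹))) h3
      simpa [mul_assoc] using h4
    have hwP : w ∈ P := hAP hwC.1
    obtain ⟨k, hk⟩ := hP ⟨w, hwP⟩
    have h5 : orderOf w ∣ p ^ k := orderOf_dvd_of_pow_eq_one (by simpa using congrArg Subtype.val hk)
    have h6 : orderOf w ∣ 2 := orderOf_dvd_of_pow_eq_one (by rw [pow_two]; exact hw2)
    have h7 : w = 1 := orderOf_eq_one_iff.mp (Nat.eq_one_of_dvd_coprimes
      ((Nat.coprime_primes (Fact.out : p.Prime) Nat.prime_two).mpr hp |>.pow_left k) h5 h6)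
    rwa [hw, commutatorElement_eq_one_iff_mul_comm] at h7
  set A' := Subgroup.closure ((C : Set G) ∪ ξ '' (A : Set G)) with hA'
  have hgood : IsGood e A' := by
    refine isGood_closure ?_ ?_
    · rintro u (hu | ⟨a, ha, rfl⟩) v (hv | ⟨a', ha', rfl⟩)
      · exact hAc u hu.1 v hv.1
      · exact hcξ u hu a' ha'
      · exact (hcξ v hv a ha).symm
      · exact hξξ a ha a' ha'
    · rintro u (hu | ⟨a, ha, rfl⟩)
      · exact hAe u hu.1
      · set v := b * a * b⁻¹ with hv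
        have hv1 : v ∈ A₁ := hφA a ha
        have hc : ⁅v, a⁻¹⁆ ∈ C := by
          rw [← commutatorElement_inv]
          exact inv_mem (hcomm _ (A.inv_mem ha) v hv1)
        have h := mul_pow_class_two (u := a⁻¹) (v := v) (c := ⁅v, a⁻¹⁆)
          (by rw [commutatorElement_def]; group) (hcA _ hc _ (A.inv_mem ha)) (hcA₁ _ hc _ hv1) e
        show (a⁻¹ * v) ^ e = 1
        rw [h, inv_pow, hAe a ha, inv_one, one_mul, hv, conj_pow, hAe a ha, mul_one, mul_inv_cancel, one_mul]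
        exact choose_two_pow_eq_one Fact.out hp he (hAe _ hc.1)
  have hA'N : A' ≤ N := by
    rw [hA', Subgroup.closure_le]
    rintro u (hu | ⟨a, ha, rfl⟩)
    · exact hAN hu.1
    · exact mul_mem (inv_mem (hAN ha)) (hA₁N (hφA a ha))
  have hA'P : A' ≤ P := hA'N.trans inf_le_left
  have hCA' : C ≤ A' := fun c hc => Subgroup.subset_closure (Or.inl hc)
  have hξA' : ∀ a ∈ A, ξ a ∈ A' := fun a ha => Subgroup.subset_closure (Or.inr ⟨a, ha, rfl⟩)
  have hsup : A ⊔ A₁ ≤ A ⊔ A' := sup_le le_sup_left fun v hv => by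
    have ha : b⁻¹ * v * b ∈ A := hA₁mem v hv
    have h1 := mul_mem (Subgroup.mem_sup_left (T := A') ha) (Subgroup.mem_sup_right (S := A) (hξA' _ ha))
    have h2 : b⁻¹ * v * b * ξ (b⁻¹ * v * b) = v := by simp only [ξ]; group
    rwa [h2] at h1
  have hcard : Nat.card A ≤ Nat.card A' := by
    refine Nat.le_of_mul_le_mul_left ?_ (Nat.card_pos (α := A))
    calc Nat.card A * Nat.card A = Nat.card A * Nat.card A₁ := by rw [hA₁, card_conj_smul]
      _ ≤ Nat.card ↥(A ⊔ A₁) * Nat.card ↥(A ⊓ A₁) := Products.card_mul_card_le A A₁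
      _ ≤ Nat.card ↥(A ⊔ A') * Nat.card ↥(A ⊓ A') :=
        Nat.mul_le_mul (Subgroup.card_le_of_le hsup) (Subgroup.card_le_of_le (le_inf inf_le_left hCA'))
      _ = Nat.card A * Nat.card A' := (card_mul_eq_of_le_normalizer (hA'N.trans inf_le_right)).symm
  refine ⟨A', ⟨hA'P, hgood, fun D hD hDg => (hAmax D hD hDg).trans hcard⟩, ?_, hA'N.trans inf_le_right⟩
  have hne : ∃ a ∈ A, ξ a ∉ A := by
    by_contra hall
    push Not at hall
    refine hbA ?_
    have hle : MulAut.conj b • A ≤ A := fun v hv => by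
      have ha : b⁻¹ * v * b ∈ A := hA₁mem v hv
      have h2 : b⁻¹ * v * b * ξ (b⁻¹ * v * b) = v := by simp only [ξ]; group
      rw [← h2]
      exact mul_mem ha (hall _ ha)
    have heq : MulAut.conj b • A = A := Subgroup.eq_of_le_of_card_ge hle (card_conj_smul _ A).ge
    rw [Subgroup.mem_normalizer_iff]
    intro z
    conv_rhs => rw [← heq, mem_conj_smul_iff]
    simp [mul_assoc]
  refine lt_of_le_of_ne (le_inf (fun z hz => hCA' ⟨hz.1, mem_conj_smul_iff.mpr ?_⟩) inf_le_right) ?_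
  · have h1 : ⁅b⁻¹, z⁆ ∈ A := hBA b⁻¹ (B.inv_mem hbB) z hz.2
    have h2 : b⁻¹ * z * b = ⁅b⁻¹, z⁆ * z := by simp only [commutatorElement_def]; group
    rw [h2]
    exact mul_mem h1 hz.1
  · obtain ⟨a, ha, hne⟩ := hne
    intro heq
    exact hne (heq.ge ⟨hξA' a ha, hξB a ha⟩).1

end CfsgLib.ZJ
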