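import Cfsg.Agent.Lib.ZJ.Complement
import Cfsg.Prelude.Def_TwoFusion

/-!
The ZJ theorem and the nilpotency criterion for a family of abelian subgroups with replacement.
-/

set_option autoImplicit false
set_option maxHeartbeats 400000

namespace CfsgLib.ZJ

open Subgroup Cfsg
open scoped Pointwise commutatorElement

universe u v
variable {G : Type u} [Group G] {p : ℕ}

/-- The intersection of the members of `𝒜` below `X`. -/
def interAbove (𝒜 : Set (Subgroup G)) (X : Subgroup G) : Subgroup G :=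
  ⨅ A ∈ {A : Subgroup G | A ∈ 𝒜 ∧ A ≤ X}, A

theorem mem_interAbove {𝒜 : Set (Subgroup G)} {X : Subgroup G} {x : G} :
    x ∈ interAbove 𝒜 X ↔ ∀ A ∈ 𝒜, A ≤ X → x ∈ A := by
  simp only [interAbove, Subgroup.mem_iInf, Set.mem_setOf_eq, and_imp]

/-- Invariance of `interAbove 𝒜 X` under the normalizer of `X`, for `X` below `P`. -/
def InterInvariant (P : Subgroup G) (𝒜 : Set (Subgroup G)) : Prop :=
  ∀ X ≤ P, (∃ A ∈ 𝒜, A ≤ X) → ∀ n ∈ Subgroup.normalizer (X : Set G),
    ∀ x ∈ interAbove 𝒜 X, n * x * n⁻¹ ∈ interAbove 𝒜 X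

/-- The replacement property, for subgroups of `D` normal in `P`. -/
def Replaceable (P D : Subgroup G) (𝒜 : Set (Subgroup G)) : Prop :=
  ∀ B ≤ D, P ≤ Subgroup.normalizer (B : Set G) → ⁅⁅B, B⁆, B⁆ = ⊥ → (∃ A ∈ 𝒜, ⁅B, B⁆ ≤ A ∧ ¬ B ≤ A) →
    ∃ A ∈ 𝒜, ⁅B, B⁆ ≤ A ∧ ¬ B ≤ A ∧ B ≤ Subgroup.normalizer (A : Set G)

section

variable {P : Subgroup G} {𝒜 : Set (Subgroup G)}

theorem interAbove_le (hA : ∀ A ∈ 𝒜, A ≤ P) (hne : 𝒜.Nonempty) : interAbove 𝒜 P ≤ P := by
  obtain ⟨A, hA'⟩ := hne
  exact fun x hx => hA A hA' (mem_interAbove.mp hx A hA' (hA A hA'))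

theorem comm_interAbove (hab : ∀ A ∈ 𝒜, A ≤ P ∧ IsMulCommutative A) (hne : 𝒜.Nonempty) :
    ∀ y ∈ interAbove 𝒜 P, ∀ z ∈ interAbove 𝒜 P, y * z = z * y := by
  obtain ⟨A, hA⟩ := hne
  intro y hy z hz
  haveI := (hab A hA).2
  exact congrArg Subtype.val (mul_comm' (⟨y, mem_interAbove.mp hy A hA (hab A hA).1⟩ : A)
    ⟨z, mem_interAbove.mp hz A hA (hab A hA).1⟩)

end

theorem normalizer_interAbove {P : Subgroup G} {𝒜 : Set (Subgroup G)} (hinv : InterInvariant P 𝒜)
    (hne : ∃ A ∈ 𝒜, A ≤ P) : P ≤ Subgroup.normalizer (interAbove 𝒜 P : Set G) := by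
  intro g hg
  refine Subgroup.mem_normalizer_iff.mpr fun x => ⟨hinv P le_rfl hne g (Subgroup.le_normalizer hg) x, fun hx => ?_⟩
  have h := hinv P le_rfl hne g⁻¹ (Subgroup.le_normalizer (P.inv_mem hg)) _ hx
  simpa [mul_assoc] using h

/-- The intersection with a normal `p`-subgroup is normal. -/
theorem inf_interAbove_normal [Finite G] [Fact p.Prime] (hst : QuadStable p G) (S : Sylow p G)
    {𝒜 : Set (Subgroup G)} (hab : ∀ A ∈ 𝒜, A ≤ (S : Subgroup G) ∧ IsMulCommutative A) (hne' : 𝒜.Nonempty)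
    (hinv : InterInvariant (S : Subgroup G) 𝒜) {D₀ : Subgroup G} (hD₀ : Cfsg.IsStronglyClosed D₀ (S : Subgroup G))
    (hZD : interAbove 𝒜 (S : Subgroup G) ≤ D₀) (hrep : Replaceable (S : Subgroup G) D₀ 𝒜)
    (B : Subgroup G) (hBn : B.Normal) (hBp : IsPGroup p B) :
    (B ⊓ interAbove 𝒜 (S : Subgroup G)).Normal := by
  induction hn : Nat.card B using Nat.strong_induction_on generalizing B with
  | h n ih =>
    subst hn
    set P : Subgroup G := (S : Subgroup G) with hP
    set Z := interAbove 𝒜 P with hZ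
    have hne : ∃ A ∈ 𝒜, A ≤ P := ⟨hne'.some, hne'.some_mem, (hab _ hne'.some_mem).1⟩
    have hBP : B ≤ P := (le_pCore hBp).trans (pCore_le_sylow S)
    by_cases hBZ0 : B ⊓ Z = ⊥
    · rw [hBZ0]; infer_instance
    -- we may suppose that `B` is the normal closure of `B ∩ Z`
    set B₁ := Subgroup.normalClosure ((B ⊓ Z : Subgroup G) : Set G) with hB₁
    have hB₁le : B₁ ≤ B := Subgroup.normalClosure_le_normal fun x hx => hx.1
    by_cases hB₁eq : B₁ = B
    swap
    · have hlt : Nat.card B₁ < Nat.card B := lt_of_le_of_ne (Subgroup.card_le_of_le hB₁le) fun h =>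
        hB₁eq (Subgroup.eq_of_le_of_card_ge hB₁le h.ge)
      have h1 := ih _ hlt B₁ inferInstance (hBp.to_le hB₁le) rfl
      have h2 : B₁ ⊓ Z = B ⊓ Z :=
        le_antisymm (inf_le_inf_right Z hB₁le) (le_inf Subgroup.le_normalClosure inf_le_right)
      rwa [h2] at h1
    have hgen : ∀ T : Subgroup G, (∀ z ∈ B ⊓ Z, ∀ g : G, g * z * g⁻¹ ∈ T) → B ≤ T := by
      intro T hT
      rw [← hB₁eq, hB₁, Subgroup.normalClosure, Subgroup.closure_le]
      intro y hy
      obtain ⟨a, ha, hc⟩ := Group.mem_conjugatesOfSet_iff.mp hy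
      obtain ⟨g, rfl⟩ := isConj_iff.mp hc
      exact hT a ha g
    have hZn : P ≤ Subgroup.normalizer (Z : Set G) :=
      normalizer_interAbove hinv hne
    haveI := hBn
    haveI hBnil : Group.IsNilpotent B := hBp.isNilpotent
    haveI : Nontrivial B := (Subgroup.nontrivial_iff_ne_bot B).mpr fun h => hBZ0 (by rw [h, bot_inf_eq])
    -- the derived subgroup
    set B' : Subgroup G := (_root_.commutator B).map B.subtype with hB'
    have hB'n : B'.Normal := inferInstance
    have hB'le : B' ≤ B := Subgroup.map_subtype_le _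
    have hB'lt : Nat.card B' < Nat.card B := by
      refine lt_of_le_of_ne (Subgroup.card_le_of_le hB'le) fun h => ?_
      refine (Group.IsSolvable.commutator_lt_top_of_nontrivial B).ne
        (Subgroup.map_injective B.subtype_injective ?_)
      rw [← MonoidHom.range_eq_map, Subgroup.range_subtype]
      exact Subgroup.eq_of_le_of_card_ge hB'le h.ge
    have hB'Z : (B' ⊓ Z).Normal := ih _ hB'lt B' hB'n (hBp.to_le hB'le) rfl
    have hcB' : ∀ b ∈ B, ∀ c ∈ B, ⁅b, c⁆ ∈ B' := fun b hb c hc =>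
      ⟨⁅(⟨b, hb⟩ : B), ⟨c, hc⟩⁆, Subgroup.commutator_mem_commutator (Subgroup.mem_top _) (Subgroup.mem_top _),
        by simp [map_commutatorElement]⟩
    have hcZ : ∀ b ∈ B, ∀ c ∈ B, ⁅b, c⁆ ∈ Z := by
      intro b hb c hc
      let T : Subgroup G :=
        { carrier := {w | w ∈ B ∧ ∀ c ∈ B, ⁅w, c⁆ ∈ B' ⊓ Z}
          one_mem' := ⟨B.one_mem, fun c _ => by rw [commutatorElement_one_left]; exact one_mem _⟩
          mul_mem' := fun {x y} hx hy => ⟨mul_mem hx.1 hy.1, fun c hc => by
            have h : ⁅x * y, c⁆ = x * ⁅y, c⁆ * x⁻¹ * ⁅x, c⁆ := by simp only [commutatorElement_def]; group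
            rw [h]
            exact mul_mem (hB'Z.conj_mem _ (hy.2 c hc) x) (hx.2 c hc)⟩
          inv_mem' := fun {x} hx => ⟨inv_mem hx.1, fun c hc => by
            have h : ⁅x⁻¹, c⁆ = x⁻¹ * ⁅x, c⁆⁻¹ * x⁻¹⁻¹ := by simp only [commutatorElement_def]; group
            rw [h]
            exact hB'Z.conj_mem _ (inv_mem (hx.2 c hc)) x⁻¹⟩ }
      have hT : B ≤ T := hgen T fun z hz g => by
        refine ⟨hBn.conj_mem z hz.1 g, fun c hc => ?_⟩
        have hd : g⁻¹ * c * g ∈ B := by simpa using hBn.conj_mem c hc g⁻¹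
        have h : ⁅g * z * g⁻¹, c⁆ = g * ⁅z, g⁻¹ * c * g⁆ * g⁻¹ := by simp only [commutatorElement_def]; group
        rw [h]
        refine hB'Z.conj_mem _ ⟨hcB' z hz.1 _ hd, ?_⟩ g
        have h1 := (Subgroup.mem_normalizer_iff.mp (hZn (hBP hd)) z⁻¹).mp (Z.inv_mem hz.2)
        have h2 := Z.mul_mem hz.2 h1
        simpa [commutatorElement_def, mul_assoc] using h2
      exact ((hT hb).2 c hc).2
    -- elements of `B'` are central in `B`
    have hcen : ∀ b ∈ B, ∀ c ∈ B, ∀ d ∈ B, ⁅b, c⁆ * d = d * ⁅b, c⁆ := by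
      intro b hb c hc
      have hB'0 : ∀ g : G, g⁻¹ * ⁅b, c⁆ * g ∈ Z := fun g => by
        have h := hB'Z.conj_mem _ ⟨hcB' b hb c hc, hcZ b hb c hc⟩ g⁻¹
        simpa using h.2
      have hT : B ≤ Subgroup.centralizer {⁅b, c⁆} := hgen _ fun z hz g => by
        rw [Subgroup.mem_centralizer_singleton_iff]
        have h := comm_interAbove hab hne' _ (hB'0 g) _ hz.2
        calc g * z * g⁻¹ * ⁅b, c⁆ = g * (z * (g⁻¹ * ⁅b, c⁆ * g)) * g⁻¹ := by group
          _ = g * ((g⁻¹ * ⁅b, c⁆ * g) * z) * g⁻¹ := by rw [← h]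
          _ = ⁅b, c⁆ * (g * z * g⁻¹) := by group
      exact fun d hd => (Subgroup.mem_centralizer_singleton_iff.mp (hT hd)).symm
    set L := (Subgroup.normalizer ((B ⊓ Z : Subgroup G) : Set G)).normalCore with hL
    haveI : L.Normal := Subgroup.normalCore_normal _
    have hCB : Subgroup.centralizer (B : Set G) ≤ Subgroup.normalizer ((B ⊓ Z : Subgroup G) : Set G) :=
      (Subgroup.centralizer_le (fun x hx => hx.1)).trans (Subgroup.centralizer_le_normalizer _)
    have hPN : P ≤ Subgroup.normalizer ((B ⊓ Z : Subgroup G) : Set G) := fun g hg => by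
      refine Subgroup.mem_normalizer_iff.mpr fun x => ?_
      have h1 := Subgroup.mem_normalizer_iff.mp (normalizer_interAbove hinv hne hg) x
      refine ⟨fun hx => ⟨hBn.conj_mem x hx.1 g, h1.mp hx.2⟩, fun hx => ⟨?_, h1.mpr hx.2⟩⟩
      simpa [mul_assoc] using hBn.conj_mem _ hx.1 g⁻¹
    -- members normalised by `B` act inside `L`
    have hquad : ∀ A ∈ 𝒜, B ≤ Subgroup.normalizer (A : Set G) → A ≤ L := by
      intro A hA hnorm a ha
      have hcomm : ⁅B, Subgroup.zpowers a⁆ ≤ A := by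
        rw [Subgroup.commutator_le]
        intro b hb x hx
        have hxA : x ∈ A := (Subgroup.zpowers_le.mpr ha) hx
        have h2 := A.mul_mem ((Subgroup.mem_normalizer_iff.mp (hnorm hb) x).mp hxA) (A.inv_mem hxA)
        simpa [commutatorElement_def, mul_assoc] using h2
      have hq : ⁅⁅B, Subgroup.zpowers a⁆, Subgroup.zpowers a⁆ = ⊥ := by
        rw [eq_bot_iff, Subgroup.commutator_le]
        intro y hy x hx
        rw [Subgroup.mem_bot, commutatorElement_eq_one_iff_mul_comm]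
        haveI := (hab A hA).2
        exact congrArg Subtype.val (mul_comm' (⟨y, hcomm hy⟩ : A) ⟨x, (Subgroup.zpowers_le.mpr ha) hx⟩)
      have h := hst B hBp a (exists_pow_eq_one_of_mem S.2 ((hab A hA).1 ha)) hq
      set C := Subgroup.centralizer (B : Set G)
      set D := (pCore p (G ⧸ C)).comap (QuotientGroup.mk' C) with hD
      have haD : a ∈ D := h
      haveI : D.Normal := Subgroup.normal_comap _
      have hDres : pResidual p D ≤ C.subgroupOf D := by
        refine pResidual_le fun g hg => ?_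
        obtain ⟨k, hk⟩ := exists_pow_eq_one_of_mem (isPGroup_pCore p) g.2
        have h1 : (QuotientGroup.mk' C (g : G)) = 1 :=
          orderOf_eq_one_iff.mp (Nat.eq_one_of_dvd_coprimes (hg.pow_right k)
            (by rw [← Subgroup.orderOf_coe]; exact orderOf_map_dvd _ _) (orderOf_dvd_of_pow_eq_one hk))
        show (g : G) ∈ C
        exact (QuotientGroup.eq_one_iff (N := C) _).mp h1
      haveI : (C.subgroupOf D).Normal := Subgroup.normal_subgroupOf
      have htop := sylow_sup_eq_top_of_pResidual_le (sylowInfNormal S D) hDres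
      have hDle : D ≤ Subgroup.normalizer ((B ⊓ Z : Subgroup G) : Set G) := by
        intro x hx
        have hx' : (⟨x, hx⟩ : D) ∈ (C.subgroupOf D) ⊔
            (sylowInfNormal S D : Subgroup D) := htop ▸ Subgroup.mem_top _
        obtain ⟨u, hu, v, hv, huv⟩ := Subgroup.mem_sup_of_normal_left.mp hx'
        rw [coe_sylowInfNormal] at hv
        rw [show x = (u : G) * (v : G) from (congrArg Subtype.val huv).symm]
        exact mul_mem (hCB hu) (hPN hv)
      exact (Subgroup.normal_le_normalCore.mpr hDle) haD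
    have hfrat : Subgroup.normalizer ((P ⊓ L : Subgroup G) : Set G) ⊔ L = ⊤ := by
      have h := Sylow.normalizer_sup_eq_top (sylowInfNormal S L)
      rwa [coe_sylowInfNormal, Subgroup.subgroupOf_map_subtype] at h
    -- members inside `L` contain `B`
    have hin : ∀ A ∈ 𝒜, A ≤ L → B ≤ A := by
      intro A hA hAL
      have hAX : A ≤ P ⊓ L := le_inf (hab A hA).1 hAL
      refine (hgen (interAbove 𝒜 (P ⊓ L)) fun z hz g => ?_).trans fun x hx => mem_interAbove.mp hx A hA hAX
      have hg : g ∈ Subgroup.normalizer ((P ⊓ L : Subgroup G) : Set G) ⊔ L := hfrat ▸ Subgroup.mem_top g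
      obtain ⟨n, hn, l, hl, rfl⟩ := Subgroup.mem_sup_of_normal_right.mp hg
      have hz' : l * z * l⁻¹ ∈ interAbove 𝒜 (P ⊓ L) :=
        mem_interAbove.mpr fun A' hA' h' => mem_interAbove.mp
          ((Subgroup.mem_normalizer_iff.mp (Subgroup.normalCore_le _ hl) z).mp hz).2 A' hA' (h'.trans inf_le_left)
      have := hinv (P ⊓ L) inf_le_left ⟨A, hA, hAX⟩ n hn _ hz'
      rwa [show n * l * z * (n * l)⁻¹ = n * (l * z * l⁻¹) * n⁻¹ by group]
    have hBB : ∀ A ∈ 𝒜, ⁅B, B⁆ ≤ A := fun A hA =>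
      Subgroup.commutator_le.mpr fun b hb c hc => mem_interAbove.mp (hcZ b hb c hc) A hA (hab A hA).1
    have hall : ∀ A ∈ 𝒜, B ≤ A := by
      by_contra h
      push Not at h
      obtain ⟨A, hA, hnot⟩ := h
      have hclass : ⁅⁅B, B⁆, B⁆ = ⊥ := by
        rw [eq_bot_iff, Subgroup.commutator_le]
        intro x hx y hy
        rw [Subgroup.mem_bot, commutatorElement_eq_one_iff_mul_comm]
        have h1 : ⁅B, B⁆ ≤ Subgroup.centralizer (B : Set G) :=
          Subgroup.commutator_le.mpr fun b hb c hc d hd => (hcen b hb c hc d hd).symm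
        exact (h1 hx y hy).symm
      have hBD : B ≤ D₀ := hgen D₀ fun z hz g => hD₀.2 z (hZD hz.2) g (hBP (hBn.conj_mem z hz.1 g))
      obtain ⟨A', hA', -, hnot', hnorm⟩ :=
        hrep B hBD (Subgroup.le_normalizer_of_normal ..) hclass ⟨A, hA, hBB A hA, hnot⟩
      exact hnot' (hin A' hA' (hquad A' hA' hnorm))
    have hBZ : B ⊓ Z = B := inf_eq_left.mpr fun x hx => mem_interAbove.mpr fun A hA _ => hall A hA hx
    rw [hBZ]
    exact hBn

/-- The ZJ theorem for a family. -/
theorem interAbove_normal [Finite G] [Fact p.Prime] (hc : Subgroup.centralizer (pCore p G : Set G) ≤ pCore p G)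
    (hst : QuadStable p G) (S : Sylow p G) {𝒜 : Set (Subgroup G)}
    (hab : ∀ A ∈ 𝒜, A ≤ (S : Subgroup G) ∧ IsMulCommutative A) (hne : 𝒜.Nonempty)
    (hinv : InterInvariant (S : Subgroup G) 𝒜) {D₀ : Subgroup G} (hD₀ : Cfsg.IsStronglyClosed D₀ (S : Subgroup G))
    (hZD : interAbove 𝒜 (S : Subgroup G) ≤ D₀) (hrep : Replaceable (S : Subgroup G) D₀ 𝒜) :
    (interAbove 𝒜 (S : Subgroup G)).Normal := by
  set Z := interAbove 𝒜 (S : Subgroup G) with hZ
  set O := pCore p G with hO
  set C := Subgroup.centralizer (O : Set G) with hC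
  have hle : Z ≤ O := by
    intro z hz
    have hq : ⁅⁅O, Subgroup.zpowers z⁆, Subgroup.zpowers z⁆ = ⊥ := by
      have hcomm : ⁅O, Subgroup.zpowers z⁆ ≤ Z := by
        rw [Subgroup.commutator_le]
        intro b hb x hx
        have hxZ : x ∈ Z := (Subgroup.zpowers_le.mpr hz) hx
        have h1 := (Subgroup.mem_normalizer_iff.mp
          (normalizer_interAbove hinv ⟨hne.some, hne.some_mem, (hab _ hne.some_mem).1⟩ (pCore_le_sylow S hb)) x).mp hxZ
        have h2 := Z.mul_mem h1 (Z.inv_mem hxZ)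
        simpa [commutatorElement_def, mul_assoc] using h2
      rw [eq_bot_iff, Subgroup.commutator_le]
      intro y hy x hx
      rw [Subgroup.mem_bot, commutatorElement_eq_one_iff_mul_comm]
      exact comm_interAbove hab hne _ (hcomm hy) _ ((Subgroup.zpowers_le.mpr hz) hx)
    have h := hst O (isPGroup_pCore p) z
      (exists_pow_eq_one_of_mem S.2 (interAbove_le (fun A hA => (hab A hA).1) hne hz)) hq
    have hD : IsPGroup p ((pCore p (G ⧸ C)).comap (QuotientGroup.mk' C)) :=
      (isPGroup_pCore (G := G ⧸ C) p).comap_of_ker_isPGroup _ (by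
        rw [QuotientGroup.ker_mk']
        exact (isPGroup_pCore p).to_le hc)
    exact le_pCore (N := (pCore p (G ⧸ C)).comap (QuotientGroup.mk' C)) hD h
  have := inf_interAbove_normal hst S hab hne hinv hD₀ hZD hrep O inferInstance (isPGroup_pCore p)
  rwa [inf_eq_right.mpr hle] at this

theorem map_interAbove {H : Type v} [Group H] {ι : H →* G} (hi : Function.Injective ι) {ℬ : Set (Subgroup H)}
    (hne : ∃ A ∈ ℬ, A ≤ (⊤ : Subgroup H)) {X : Subgroup G} (hX : X ≤ ι.range) (hXne : ∃ A ∈ ℬ, A.map ι ≤ X) :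
    interAbove ((Subgroup.map ι) '' ℬ) X = (interAbove ℬ (X.comap ι)).map ι := by
  ext x
  constructor
  · intro hx
    obtain ⟨A, hA, hAX⟩ := hXne
    obtain ⟨y, -, rfl⟩ := mem_interAbove.mp hx _ ⟨A, hA, rfl⟩ hAX
    refine ⟨y, mem_interAbove.mpr fun B hB hBX => ?_, rfl⟩
    obtain ⟨w, hw, e⟩ := mem_interAbove.mp hx _ ⟨B, hB, rfl⟩ (Subgroup.map_le_iff_le_comap.mpr hBX)
    exact hi e ▸ hw
  · rintro ⟨y, hy, rfl⟩
    refine mem_interAbove.mpr ?_
    rintro _ ⟨A, hA, rfl⟩ hAX
    exact ⟨y, mem_interAbove.mp hy A hA (Subgroup.map_le_iff_le_comap.mp hAX), rfl⟩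

/-- The axioms for a group `G` containing `H` through `ι`. -/
def EmbInvariant {H : Type v} [Group H] (ι : H →* G) (ℬ : Set (Subgroup H)) : Prop :=
  ∀ X : Subgroup H, (∃ A ∈ ℬ, A ≤ X) → ∀ g ∈ Subgroup.normalizer (X.map ι : Set G),
    ∀ x ∈ interAbove ℬ X, g * ι x * g⁻¹ ∈ (interAbove ℬ X).map ι

/-- Strong closure of `D` in a group `G` containing `H` through `ι`. -/
def EmbClosed {H : Type v} [Group H] (ι : H →* G) (D : Subgroup H) : Prop :=
  ∀ d ∈ D, ∀ (g : G) (h : H), g * ι d * g⁻¹ = ι h → h ∈ D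

theorem eq_top_of_family {H : Type v} [Group H] [Fact p.Prime] (hp2 : p ≠ 2) {ℬ : Set (Subgroup H)}
    (hab : ∀ A ∈ ℬ, IsMulCommutative A) (hne : ℬ.Nonempty) {D₀ : Subgroup H}
    (hZD : interAbove ℬ ⊤ ≤ D₀) (hrep : Replaceable ⊤ D₀ ℬ) :
    ∀ (n : ℕ) {G : Type u} [Group G] [Finite G], Nat.card G = n → ∀ (ι : H →* G) (P : Sylow p G),
      Function.Injective ι → (P : Subgroup G) = ι.range →
      Subgroup.centralizer (pCore p G : Set G) ≤ pCore p G → EmbInvariant ι ℬ → EmbClosed ι D₀ →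
      Subgroup.normalizer ((interAbove ℬ ⊤).map ι : Set G) ≤ ι.range → ι.range = ⊤ := by
  intro n
  induction n using Nat.strong_induction_on with
  | h n ih =>
    intro G _ _ hn ι P hi hP hC hinv hcl₀ hN
    subst hn
    by_contra hne'
    have hPne : (P : Subgroup G) ≠ ⊤ := hP ▸ hne'
    set O := pCore p G with hO
    -- overgroups of the Sylow subgroup
    have hmax : ∀ K : Subgroup G, (P : Subgroup G) ≤ K → K = P ∨ K = ⊤ := by
      intro K hK
      by_cases hKt : K = ⊤
      · exact Or.inr hKt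
      left
      have hrK : ∀ h, ι h ∈ K := fun h => hK (hP ▸ ⟨h, rfl⟩)
      let ι' : H →* K := ι.codRestrict K hrK
      have hO' : O.subgroupOf K ≤ pCore p K := by
        haveI : (O.subgroupOf K).Normal := Subgroup.normal_subgroupOf
        exact le_pCore ((isPGroup_pCore p).comap_subtype)
      have hC' : Subgroup.centralizer (pCore p K : Set K) ≤ pCore p K := by
        intro k hk
        refine hO' (hC (Subgroup.mem_centralizer_iff.mpr fun o ho => ?_))
        have hoK : o ∈ K := hK (pCore_le_sylow P ho)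
        exact congrArg Subtype.val (hk ⟨o, hoK⟩ (hO' (show (⟨o, hoK⟩ : K) ∈ O.subgroupOf K from ho)))
      have hmap : ∀ X : Subgroup H, (X.map ι').map K.subtype = X.map ι := fun X => by
        rw [Subgroup.map_map]; rfl
      have hnorm : ∀ (X : Subgroup H) (g : K), g ∈ Subgroup.normalizer (X.map ι' : Set K) →
          (g : G) ∈ Subgroup.normalizer (X.map ι : Set G) := by
        intro X g hg
        rw [← hmap]
        exact Subgroup.le_normalizer_map K.subtype (Subgroup.mem_map_of_mem _ hg)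
      have hinv' : EmbInvariant ι' ℬ := by
        intro X hXne g hg x hx
        obtain ⟨y, hy, e⟩ := hinv X hXne g (hnorm X g hg) x hx
        exact ⟨y, hy, Subtype.ext e⟩
      have hN' : Subgroup.normalizer ((interAbove ℬ ⊤).map ι' : Set K) ≤ ι'.range := by
        intro g hg
        obtain ⟨h, e⟩ := hN (hnorm _ g hg)
        exact ⟨h, Subtype.ext e⟩
      have hrange : ((P.subtype hK : Sylow p K) : Subgroup K) = ι'.range := by
        rw [Sylow.coe_subtype, hP]
        ext g
        exact ⟨fun ⟨h, e⟩ => ⟨h, Subtype.ext e⟩, fun ⟨h, e⟩ => ⟨h, congrArg Subtype.val e⟩⟩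
      have h := ih _ (card_lt_of_lt_top (lt_top_iff_ne_top.mpr hKt)) rfl ι' (P.subtype hK)
        (fun a b e => hi (congrArg Subtype.val e)) hrange hC' hinv' (fun d hd g h e => hcl₀ d hd g h (congrArg Subtype.val e)) hN'
      refine le_antisymm (fun x hx => ?_) hK
      obtain ⟨w, hw⟩ : (⟨x, hx⟩ : K) ∈ ι'.range := h ▸ Subgroup.mem_top _
      rw [hP]
      exact ⟨w, congrArg Subtype.val hw⟩
    set 𝒜 : Set (Subgroup G) := (Subgroup.map ι) '' ℬ with h𝒜
    have hne0 : ∃ A ∈ ℬ, A ≤ (⊤ : Subgroup H) := ⟨hne.some, hne.some_mem, le_top⟩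
    have hneP : ∃ A ∈ ℬ, A.map ι ≤ (P : Subgroup G) := ⟨hne.some, hne.some_mem, hP ▸ Subgroup.map_le_range _ _⟩
    have hZ : interAbove 𝒜 (P : Subgroup G) = (interAbove ℬ ⊤).map ι := by
      have hPt : (P : Subgroup G).comap ι = ⊤ := by
        rw [hP]
        exact eq_top_iff.mpr fun x _ => ⟨x, rfl⟩
      rw [map_interAbove hi hne0 hP.le hneP, hPt]
    have hinvG : InterInvariant (P : Subgroup G) 𝒜 := by
      rintro X hXP ⟨_, ⟨A, hA, rfl⟩, hAX⟩ g hg x hx
      rw [map_interAbove hi hne0 (hP ▸ hXP) ⟨A, hA, hAX⟩] at hx ⊢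
      obtain ⟨y, hy, rfl⟩ := hx
      refine hinv _ ⟨A, hA, Subgroup.map_le_iff_le_comap.mp hAX⟩ g ?_ y hy
      rwa [Subgroup.map_comap_eq_self (hP ▸ hXP)]
    have hrepG : Replaceable (P : Subgroup G) (D₀.map ι) 𝒜 := by
      rintro B hBD hBn hcl ⟨_, ⟨A, hA, rfl⟩, hBA, hnA⟩
      have hB : B ≤ ι.range := hBD.trans (Subgroup.map_le_range _ _)
      have hBe : (B.comap ι).map ι = B := Subgroup.map_comap_eq_self hB
      set B₀ := B.comap ι with hB₀
      have hcm : (⁅B₀, B₀⁆ : Subgroup H).map ι = ⁅B, B⁆ := by rw [Subgroup.map_commutator, hBe]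
      have hB₀D : B₀ ≤ D₀ := by rw [← Subgroup.map_le_map_iff_of_injective hi, hBe]; exact hBD
      have hB₀n : ⊤ ≤ Subgroup.normalizer (B₀ : Set H) := by
        intro h _
        refine Subgroup.mem_normalizer_iff.mpr fun y => ?_
        simp only [hB₀, Subgroup.mem_comap, map_mul, map_inv]
        exact Subgroup.mem_normalizer_iff.mp (hBn (hP ▸ ⟨h, rfl⟩)) _
      obtain ⟨A', hA', h1, h2, h3⟩ := hrep B₀ hB₀D hB₀n (by
        apply Subgroup.map_injective hi
        rw [Subgroup.map_commutator, hcm, hBe, hcl, Subgroup.map_bot]) ⟨A, hA, by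
        rw [← Subgroup.map_le_map_iff_of_injective hi, hcm]
        exact hBA, fun h => hnA (hBe ▸ Subgroup.map_mono h)⟩
      refine ⟨_, ⟨A', hA', rfl⟩, hcm ▸ Subgroup.map_mono h1, fun h => h2 ?_, ?_⟩
      · rwa [← Subgroup.map_le_map_iff_of_injective hi, hBe]
      · rw [← hBe]
        exact (Subgroup.map_mono h3).trans (Subgroup.le_normalizer_map ι)
    have habG : ∀ A ∈ 𝒜, A ≤ (P : Subgroup G) ∧ IsMulCommutative A := by
      rintro _ ⟨A, hA, rfl⟩
      haveI := hab A hA
      exact ⟨hP ▸ Subgroup.map_le_range _ _, inferInstance⟩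
    have hnotN : ∀ h : Subgroup G, h = interAbove 𝒜 (P : Subgroup G) → ¬ h.Normal := by
      rintro _ rfl hn
      rw [hZ] at hn
      refine hne' (top_le_iff.mp ?_)
      rwa [Subgroup.normalizer_eq_top_iff.mpr hn] at hN
    have hPO : (P : Subgroup G) ≠ O := by
      intro h
      refine hnotN _ rfl ⟨fun x hx g => hinvG P le_rfl ⟨_, ⟨hne.some, hne.some_mem, rfl⟩, (habG _ ⟨_, hne.some_mem, rfl⟩).1⟩ g ?_ x hx⟩
      rw [Subgroup.normalizer_eq_top_iff.mpr (h ▸ inferInstance)]
      exact Subgroup.mem_top g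
    let π := QuotientGroup.mk' O
    have hs : Function.Surjective π := QuotientGroup.mk'_surjective O
    have hOP : O ≤ (P : Subgroup G) := pCore_le_sylow P
    have hcomapP : ((P : Subgroup G).map π).comap π = P := by
      rw [Subgroup.comap_map_eq, QuotientGroup.ker_mk', sup_eq_left.mpr hOP]
    -- the quotient has a normal complement
    have hQnpc : HasNormalPComplement p (G ⧸ O) := by
      refine hasNormalPComplement_of_normalizer_zj hp2 (Or.inl rfl) (P.mapSurjective hs) ?_
      set T : Subgroup (G ⧸ O) := (P.mapSurjective hs : Subgroup (G ⧸ O)) with hT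
      have hTmap : T = (P : Subgroup G).map π := rfl
      have hT0 : T ≠ ⊥ := fun e => hPO (le_antisymm (by
        rw [hTmap, Subgroup.map_eq_bot_iff, QuotientGroup.ker_mk'] at e
        exact e) hOP)
      set N' := Subgroup.normalizer (zj 0 T : Set (G ⧸ O)) with hN'
      have hTN : T ≤ N' := Subgroup.le_normalizer.trans (normalizer_le_normalizer_zj 0 T)
      rcases hmax (N'.comap π) (Subgroup.map_le_iff_le_comap.mp (hTmap ▸ hTN)) with h | h
      · have h1 : N' = T := by
          rw [hTmap, ← h, Subgroup.map_comap_eq_self_of_surjective hs]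
        rw [h1]
        exact hasNormalPComplement_of_isPGroup (P.mapSurjective hs).2
      · have h1 : N' = ⊤ := by
          rw [← Subgroup.map_comap_eq_self_of_surjective hs N', h, Subgroup.map_top_of_surjective π hs]
        exfalso
        haveI := Subgroup.normalizer_eq_top_iff.mp h1
        refine zj_ne_bot (Or.inl rfl) (P.mapSurjective hs).2 hT0 ?_
        have h2 : zj 0 T ≤ pCore p (G ⧸ O) := le_pCore ((P.mapSurjective hs).2.to_le (zj_le 0 T))
        exact le_bot_iff.mp (h2.trans pCore_quotient_pCore_eq_bot.le)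
    set Kb := pPrimeCore p (G ⧸ O) with hKb
    set M := Kb.comap π with hM
    haveI hMn : M.Normal := Subgroup.normal_comap _
    have hQp : IsPGroup p ((G ⧸ O) ⧸ Kb) := isPGroup_quotient_of_hasNormalPComplement hQnpc
    have hKcop : ∀ m ∈ M, ∀ k : ℕ, m ^ p ^ k ∈ O → m ∈ O := by
      intro m hm k hmp
      have hmK : π m ∈ Kb := Subgroup.mem_comap.mp hm
      have h1 : (orderOf (π m)).Coprime p :=
        Nat.Coprime.coprime_dvd_left (Subgroup.orderOf_dvd_natCard Kb hmK)
          (card_pPrimeCore_coprime (G := G ⧸ O) p)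
      have h2 : (π m) ^ p ^ k = 1 := by
        rw [← map_pow]
        exact (QuotientGroup.eq_one_iff (N := O) _).mpr hmp
      have h3 : π m = 1 := orderOf_eq_one_iff.mp
        (Nat.eq_one_of_dvd_coprimes (h1.pow_right k) dvd_rfl (orderOf_dvd_of_pow_eq_one h2))
      exact (QuotientGroup.eq_one_iff (N := O) m).mp h3
    have hcop1 : ∀ m ∈ M, m ^ p ∈ O → m ∈ O := fun m hm h => hKcop m hm 1 (by rwa [pow_one])
    have hcop1 : ∀ m ∈ M, m ^ p ∈ O → m ∈ O := fun m hm h => hKcop m hm 1 (by rwa [pow_one])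
    have hMq : IsPGroup p (G ⧸ M) := by
      intro x
      obtain ⟨g, rfl⟩ := QuotientGroup.mk'_surjective M x
      obtain ⟨k, hk⟩ := hQp (QuotientGroup.mk (π g))
      refine ⟨k, ?_⟩
      rw [← map_pow]
      refine (QuotientGroup.eq_one_iff _).mpr ?_
      show π (g ^ p ^ k) ∈ Kb
      rw [map_pow]
      exact (QuotientGroup.eq_one_iff _).mp (by rw [QuotientGroup.mk_pow]; exact hk)
    have hpre : ∀ Lb : Subgroup (G ⧸ O), Lb ≤ Kb →
        (P : Subgroup G).map π ≤ Subgroup.normalizer (Lb : Set (G ⧸ O)) → Lb = Kb ∨ Lb = ⊥ := by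
      intro Lb hle hPn
      set Tb := (P : Subgroup G).map π with hTb
      have hdisj : Disjoint Kb Tb := by
        obtain ⟨j, hj⟩ := (P.2.map π).exists_card_eq
        exact Subgroup.disjoint_of_coprime_natCard (by
          rw [hj]; exact (card_pPrimeCore_coprime p).pow_right j)
      rcases hmax ((Lb ⊔ Tb).comap π) (Subgroup.map_le_iff_le_comap.mp le_sup_right) with h | h
      · right
        have h1 : Lb ⊔ Tb = Tb := by
          rw [← Subgroup.map_comap_eq_self_of_surjective hs (Lb ⊔ Tb), h]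
        exact le_bot_iff.mp (hdisj hle (h1 ▸ le_sup_left))
      · left
        have h1 : Lb ⊔ Tb = ⊤ := by
          rw [← Subgroup.map_comap_eq_self_of_surjective hs (Lb ⊔ Tb), h, Subgroup.map_top_of_surjective π hs]
        refine le_antisymm hle fun x hx => ?_
        obtain ⟨l, hl, t, ht, rfl⟩ := mem_sup_of_le_normalizer hPn (h1 ▸ Subgroup.mem_top x)
        have h2 : t ∈ Kb := by simpa using Kb.mul_mem (Kb.inv_mem (hle hl)) hx
        rw [Subgroup.disjoint_def.mp hdisj h2 ht, mul_one]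
        exact hl
    have hab' : ∀ m ∈ M, ∀ n ∈ M, ⁅m, n⁆ ∈ O := by
      by_cases hKb0 : Kb = ⊥
      · intro m hm n _
        have hmO : m ∈ O := by
          rw [← QuotientGroup.eq_one_iff, ← Subgroup.mem_bot, ← hKb0]
          exact hm
        have h1 := O.mul_mem hmO ((inferInstance : O.Normal).conj_mem _ (O.inv_mem hmO) n)
        simpa [commutatorElement_def, mul_assoc] using h1
      obtain ⟨q, hq, hqd⟩ := Nat.exists_prime_and_dvd (n := Nat.card Kb) (fun h =>
        hKb0 (Subgroup.eq_bot_of_card_eq Kb h))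
      haveI := Fact.mk hq
      set Pb := (P : Subgroup G).map π with hPb
      have hPbp : IsPGroup p Pb := P.2.map π
      obtain ⟨k, hk⟩ := hPbp.exists_card_eq
      haveI : Group.IsNilpotent Pb := hPbp.isNilpotent
      obtain ⟨Q, hQ⟩ := coprime_exists_invariant_sylow (A := Pb) (K := Kb)
        (Subgroup.le_normalizer_of_normal ..)
        (by rw [hk]; exact ((card_pPrimeCore_coprime p).pow_right k).symm) (Or.inl inferInstance) q
      have hQ0 : (Q : Subgroup Kb).map Kb.subtype ≠ ⊥ := by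
        rw [ne_eq, Subgroup.map_eq_bot_iff_of_injective _ Kb.subtype_injective]
        intro h
        have := Q.not_dvd_index
        rw [h, Subgroup.index_bot] at this
        exact this hqd
      have hQK := (hpre _ (Subgroup.map_subtype_le _) hQ).resolve_right hQ0
      have hKq : IsPGroup q Kb := by
        rw [← hQK]
        exact Q.2.map _
      haveI : Group.IsNilpotent Kb := hKq.isNilpotent
      haveI : Nontrivial Kb := (Subgroup.nontrivial_iff_ne_bot Kb).mpr hKb0
      set D := (_root_.commutator Kb).map Kb.subtype with hD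
      have hD' := hpre D (Subgroup.map_subtype_le _) (Subgroup.le_normalizer_of_normal ..)
      have hDbot : D = ⊥ := hD'.resolve_left fun h =>
        (Group.IsSolvable.commutator_lt_top_of_nontrivial Kb).ne (Subgroup.map_injective Kb.subtype_injective (by
          rw [← MonoidHom.range_eq_map, Subgroup.range_subtype]; exact h))
      intro m hm n hn
      rw [← QuotientGroup.eq_one_iff, ← Subgroup.mem_bot, ← hDbot]
      exact ⟨⁅(⟨π m, hm⟩ : Kb), ⟨π n, hn⟩⁆,
        Subgroup.commutator_mem_commutator (Subgroup.mem_top _) (Subgroup.mem_top _),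
        by simp only [map_commutatorElement, Subgroup.coe_subtype]; exact (map_commutatorElement π m n).symm⟩
    have hst : QuadStable p G := quadStable_of_abelian hp2 M hab' hcop1 hMq
    refine hnotN _ rfl (interAbove_normal hC hst P habG ⟨_, hne.some, hne.some_mem, rfl⟩ hinvG ⟨hP ▸ Subgroup.map_le_range _ _, ?_⟩
      (hZ ▸ Subgroup.map_mono hZD) hrepG)
    rintro _ ⟨d, hd, rfl⟩ g hg
    rw [hP] at hg
    obtain ⟨w, hw⟩ := hg
    exact ⟨w, hcl₀ d hd g w hw.symm, hw⟩

end CfsgLib.ZJ
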