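import Cfsg.Agent.Lib.ZJ.Theorem
import Mathlib.FieldTheory.Finite.Basic
import Mathlib.Algebra.CharP.Lemmas
import Mathlib.GroupTheory.GroupAction.ConjAct

/-!
Quadratic action of odd order elements against abelian `p'`-groups, and the resulting
`p`-stability of groups whose quotient by `O_p` is an abelian-by-`p` group.
-/

set_option autoImplicit false
set_option maxHeartbeats 400000

namespace CfsgLib.ZJ

open Subgroup Cfsg
open scoped Pointwise commutatorElement

universe u
variable {G : Type u} [Group G] {p : ℕ}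

/-- A unit `x` of odd prime characteristic with `(x - 1)² = 0` centralises every finite abelian
`p'`-group of units it normalises. -/
theorem commute_of_quadratic {R : Type u} [Ring R] (hp : p.Prime) (hp2 : p ≠ 2) (hchar : (p : R) = 0)
    (Q : Subgroup Rˣ) [Finite Q] (hcomm : ∀ s ∈ Q, ∀ t ∈ Q, s * t = t * s)
    (hcop : (Nat.card Q).Coprime p) {x : Rˣ} (hnorm : ∀ s ∈ Q, x * s * x⁻¹ ∈ Q)
    (hquad : ((x : R) - 1) * ((x : R) - 1) = 0) : ∀ s ∈ Q, x * s = s * x := by
  rcases subsingleton_or_nontrivial R with hR | hR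
  · exact fun s _ => Units.ext (Subsingleton.elim _ _)
  haveI := Fact.mk hp
  haveI : CharP R p := by
    have h1 : ringChar R ∣ p := ringChar.dvd hchar
    rcases (Nat.dvd_prime hp).mp h1 with h | h
    · exfalso
      exact CharP.ringChar_ne_one h
    · exact ringChar.of_eq h
  set C := Subring.closure (Units.val '' (Q : Set Rˣ)) with hC
  have hCc : ∀ a ∈ C, ∀ b ∈ C, a * b = b * a := by
    have h1 : C ≤ Subring.centralizer (Units.val '' (Q : Set Rˣ)) := by
      rw [hC, Subring.closure_le]
      rintro _ ⟨s, hs, rfl⟩ _ ⟨t, ht, rfl⟩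
      rw [← Units.val_mul, ← Units.val_mul, hcomm t ht s hs]
    have h2 : C ≤ Subring.centralizer (C : Set R) := by
      rw [hC, Subring.closure_le]
      rintro _ ⟨s, hs, rfl⟩ b hb
      exact (h1 hb (s : R) ⟨s, hs, rfl⟩).symm
    exact fun a ha b hb => h2 hb a ha
  let σ : R → R := fun r => (x : R) * r * ((x⁻¹ : Rˣ) : R)
  have hσC : ∀ c ∈ C, σ c ∈ C := by
    intro c hc
    induction hc using Subring.closure_induction with
    | mem z hz =>
      obtain ⟨s, hs, rfl⟩ := hz
      exact Subring.subset_closure ⟨x * s * x⁻¹, hnorm s hs, by simp [σ]⟩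
    | zero => simp [σ]
    | one => simp [σ]
    | add a b _ _ ha hb => simp only [σ, mul_add, add_mul]; exact add_mem ha hb
    | neg a _ ha => simp only [σ, mul_neg, neg_mul]; exact neg_mem ha
    | mul a b _ _ ha hb =>
      have h1 : σ (a * b) = σ a * σ b := by simp [σ, mul_assoc]
      rw [h1]; exact mul_mem ha hb
  set t := Nat.totient (Nat.card Q) with ht
  have hodd : Odd (p ^ t) := (hp.odd_of_ne_two hp2).pow
  have hfrob : ∀ c ∈ C, c ^ p ^ t = c := by
    intro c hc
    induction hc using Subring.closure_induction with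
    | mem z hz =>
      obtain ⟨s, hs, rfl⟩ := hz
      have h1 : (⟨s, hs⟩ : Q) ^ p ^ t = ⟨s, hs⟩ := by
        conv_rhs => rw [← pow_one (⟨s, hs⟩ : Q)]
        rw [pow_eq_pow_iff_modEq]
        exact (Nat.ModEq.pow_totient hcop.symm).of_dvd (orderOf_dvd_natCard _)
      have h2 := congrArg (fun u : Q => ((u : Rˣ) : R)) h1
      simpa using h2
    | zero => exact zero_pow (pow_ne_zero _ hp.ne_zero)
    | one => exact one_pow _
    | add a b ha hb iha ihb => rw [add_pow_char_pow_of_commute p t (show Commute a b from hCc a ha b hb), iha, ihb]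
    | neg a _ iha => rw [hodd.neg_pow, iha]
    | mul a b ha hb iha ihb =>
      have hcab : Commute a b := hCc a ha b hb
      rw [hcab.mul_pow, iha, ihb]
  have hred : ∀ c ∈ C, c * c = 0 → c = 0 := by
    intro c hc h
    have h2 : 2 ≤ p ^ t := by
      have ht0 : t ≠ 0 := (Nat.totient_pos.mpr Nat.card_pos).ne'
      exact le_trans hp.two_le (Nat.le_self_pow ht0 p)
    rw [← hfrob c hc, ← Nat.add_sub_cancel' h2, pow_add, pow_two, h, zero_mul]
  have hxx : (x : R) * x = 2 * x - 1 := by
    have h : (x : R) * x - (2 * x - 1) = ((x : R) - 1) * ((x : R) - 1) := by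
      rw [two_mul, mul_sub, sub_mul, sub_mul, one_mul, mul_one, one_mul]; abel
    rw [hquad] at h
    exact sub_eq_zero.mp h
  have hxc : ∀ c : R, (x : R) * c = σ c * x := fun c => by simp [σ, mul_assoc]
  have hfix : ∀ c ∈ C, σ c = c := by
    intro c hc
    set c₁ := σ c with hc1
    set c₂ := σ c₁ with hc2
    have hc₁ : c₁ ∈ C := hσC c hc
    have hc₂ : c₂ ∈ C := hσC c₁ hc₁
    set α := 2 * (c₂ - c₁) with hα
    have h1 : α * (x : R) = c₂ - c := by
      have e1 : (x : R) * x * c = c₂ * ((x : R) * x) := by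
        calc (x : R) * x * c = (x : R) * (σ c * x) := by rw [mul_assoc, hxc c]
          _ = (x : R) * σ c * x := (mul_assoc _ _ _).symm
          _ = σ (σ c) * x * x := by rw [hxc (σ c)]
          _ = c₂ * ((x : R) * x) := by rw [hc2, hc1, mul_assoc]
      have e2 : (2 * (x : R) - 1) * c = 2 * (c₁ * x) - c := by
        rw [sub_mul, one_mul, mul_assoc, hxc c]
      rw [hxx, e2, mul_sub, mul_one] at e1
      have e3 : c₂ * (2 * (x : R)) = 2 * (c₂ * x) := by
        rw [two_mul, two_mul, mul_add]
      rw [e3, sub_eq_sub_iff_add_eq_add] at e1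
      rw [hα, mul_assoc, sub_mul, mul_sub, sub_eq_iff_eq_add]
      have e4 : 2 * (c₂ * (x : R)) = 2 * (c₁ * x) + c₂ - c := by rw [e1]; abel
      rw [e4]; abel
    have hαC : α ∈ C := mul_mem (by simp [← one_add_one_eq_two, add_mem, one_mem]) (sub_mem hc₂ hc₁)
    have h2 : α * (σ c₁ - c₁) = 0 := by
      have e : α * (x : R) * c₁ = c₁ * (α * x) := by
        rw [h1]; exact hCc _ (sub_mem hc₂ hc) _ hc₁
      rw [mul_assoc, hxc, ← mul_assoc, ← mul_assoc c₁, hCc c₁ hc₁ α hαC] at e
      have e3 : α * σ c₁ = α * c₁ := (Units.mul_left_inj x).mp e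
      rw [mul_sub, e3, sub_self]
    have h3 : α * α = 0 := by
      rw [← hc2] at h2
      calc α * α = α * (c₂ - c₁ + (c₂ - c₁)) := by rw [hα, two_mul]
        _ = 0 := by rw [mul_add, h2, add_zero]
    have h4 : α = 0 := hred α hαC h3
    have h5 : c₂ = c₁ := by
      obtain ⟨k, hk⟩ := hp.odd_of_ne_two hp2
      have h6 : (p : R) * (c₂ - c₁) = 0 := by rw [hchar, zero_mul]
      have h7 : (p : R) * (c₂ - c₁) = (k : R) * α + (c₂ - c₁) := by
        rw [hk, hα]; push_cast
        rw [add_mul, one_mul, ← mul_assoc, (Nat.cast_commute k (2 : R)).eq]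
      rw [h7, h4, mul_zero, zero_add] at h6
      exact sub_eq_zero.mp h6
    have h8 : (x : R) * c₁ * ((x⁻¹ : Rˣ) : R) = (x : R) * c * ((x⁻¹ : Rˣ) : R) := h5
    exact (Units.mul_right_inj x).mp ((Units.mul_left_inj x⁻¹).mp h8)
  intro s hs
  refine Units.ext ?_
  rw [Units.val_mul, Units.val_mul, hxc, hfix _ (Subring.subset_closure ⟨s, hs, rfl⟩)]

/-- Quadratic action on a normal elementary abelian section. -/
theorem commutator_mem_centralizer_of_quadratic [Finite G] [Fact p.Prime] (hp2 : p ≠ 2)
    (V : Subgroup G) [V.Normal] (hVc : ∀ x ∈ V, ∀ y ∈ V, x * y = y * x) (hVp : ∀ x ∈ V, x ^ p = 1)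
    (M : Subgroup G) (hMab : ∀ m ∈ M, ∀ n ∈ M, ⁅m, n⁆ ∈ Subgroup.centralizer (V : Set G))
    (hMcop : ∀ m ∈ M, m ^ p ∈ Subgroup.centralizer (V : Set G) → m ∈ Subgroup.centralizer (V : Set G))
    {a : G} (haM : ∀ m ∈ M, a * m * a⁻¹ ∈ M) (hq : ∀ v ∈ V, ⁅⁅v, a⁆, a⁆ = 1) {m : G} (hm : m ∈ M) :
    ⁅a, m⁆ ∈ Subgroup.centralizer (V : Set G) := by
  let _ : CommGroup V := { (inferInstance : Group V) with mul_comm := fun x y => Subtype.ext (hVc x x.2 y y.2) }
  let ρ₀ : G →* AddMonoid.End (Additive V) :=
    { toFun := fun g => MonoidHom.toAdditive (MulAut.conjNormal (H := V) g).toMonoidHom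
      map_one' := by ext v; exact congrArg (fun e : MulAut V => (e v.toMul : G)) (map_one (MulAut.conjNormal (H := V)))
      map_mul' := fun g h => by
        ext v; exact congrArg (fun e : MulAut V => (e v.toMul : G)) (map_mul (MulAut.conjNormal (H := V)) g h) }
  let ρ : G →* (AddMonoid.End (Additive V))ˣ := ρ₀.toHomUnits
  have hρ : ∀ (g : G) (v : V), ((((ρ g : AddMonoid.End (Additive V))) (Additive.ofMul v)).toMul : G) =
      g * v * g⁻¹ := fun g v => rfl
  have hker : ∀ g : G, ρ g = 1 ↔ g ∈ Subgroup.centralizer (V : Set G) := by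
    intro g
    constructor
    · intro h v hv
      have h1 := hρ g ⟨v, hv⟩
      rw [h] at h1
      have h2 : v = g * v * g⁻¹ := h1
      calc v * g = g * v * g⁻¹ * g := by rw [← h2]
        _ = g * v := by group
    · intro h
      refine Units.ext (AddMonoidHom.ext fun v => ?_)
      refine Additive.toMul.injective (Subtype.ext ?_)
      show g * (v.toMul : G) * g⁻¹ = (v.toMul : G)
      rw [← h _ v.toMul.2, mul_inv_cancel_right]
  have hcast : ((p : ℕ) : AddMonoid.End (Additive V)) = 0 := by
    ext v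
    show ((((p : ℕ) : AddMonoid.End (Additive V)) v).toMul : G) = ((0 : AddMonoid.End (Additive V)) v).toMul
    rw [AddMonoid.End.natCast_apply]
    show (((p • v).toMul : V) : G) = 1
    rw [toMul_nsmul, Subgroup.coe_pow]
    exact hVp _ v.toMul.2
  set Q := M.map ρ with hQ
  have hQc : ∀ s ∈ Q, ∀ t ∈ Q, s * t = t * s := by
    rintro _ ⟨m, hm, rfl⟩ _ ⟨n, hn, rfl⟩
    rw [← commutatorElement_eq_one_iff_mul_comm, ← map_commutatorElement]
    exact (hker _).mpr (hMab m hm n hn)
  haveI : Finite Q := Finite.of_surjective (ρ.subgroupMap M) (ρ.subgroupMap_surjective M)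
  have hcop : (Nat.card Q).Coprime p := by
    refine ((Fact.out : p.Prime).coprime_iff_not_dvd.mpr fun hd => ?_).symm
    obtain ⟨⟨_, m, hm, rfl⟩, hs⟩ := exists_prime_orderOf_dvd_card' (G := Q) p hd
    rw [← Subgroup.orderOf_coe] at hs
    have h1 : ρ m ^ p = 1 := by rw [← hs]; exact pow_orderOf_eq_one _
    have h2 := hMcop m hm ((hker _).mp (by rw [map_pow, h1]))
    simp only [(hker m).mpr h2, orderOf_one] at hs
    exact (Fact.out : p.Prime).ne_one hs.symm
  have hnorm : ∀ s ∈ Q, ρ a * s * (ρ a)⁻¹ ∈ Q := by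
    rintro _ ⟨n, hn, rfl⟩
    exact ⟨a * n * a⁻¹, haM n hn, by simp⟩
  have hquad : ((ρ a : AddMonoid.End (Additive V)) - 1) * ((ρ a : AddMonoid.End (Additive V)) - 1) = 0 := by
    ext v
    set f : AddMonoid.End (Additive V) := (ρ a : AddMonoid.End (Additive V))
    show (((f - 1) ((f - 1) v)).toMul : G) = 1
    have hsub : ∀ w : Additive V, (((f - 1) w).toMul : G) = a * (w.toMul : G) * a⁻¹ * (w.toMul : G)⁻¹ := by
      intro w
      show (((f w - w : Additive V)).toMul : G) = _
      rw [toMul_sub, div_eq_mul_inv, Subgroup.coe_mul, Subgroup.coe_inv]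
      rfl
    rw [hsub, hsub]
    have h1 := hq _ v.toMul.2
    set w : G := a * (v.toMul : G) * a⁻¹ * (v.toMul : G)⁻¹
    have h2 : ⁅(v.toMul : G), a⁆ = w⁻¹ := by simp only [w, commutatorElement_def]; group
    rw [h2, commutatorElement_eq_one_iff_mul_comm] at h1
    have h3 : a * w = w * a := by
      calc a * w = w * (w⁻¹ * a) * w := by group
        _ = w * (a * w⁻¹) * w := by rw [h1]
        _ = w * a := by group
    rw [h3, mul_inv_cancel_right, mul_inv_cancel]
  have h := commute_of_quadratic (Fact.out : p.Prime) hp2 hcast Q hQc hcop hnorm hquad (ρ m) ⟨m, hm, rfl⟩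
  exact (hker _).mp (by rw [map_commutatorElement, commutatorElement_eq_one_iff_mul_comm.mpr h])

/-- The preimage of `O_p(G / C_G(V))`. -/
def stabCore (p : ℕ) (V : Subgroup G) [V.Normal] : Subgroup G :=
  (pCore p (G ⧸ Subgroup.centralizer (V : Set G))).comap (QuotientGroup.mk' (Subgroup.centralizer (V : Set G)))

theorem isPGroup_map_of_pResidual [Finite G] [Fact p.Prime] {S C : Subgroup G} [C.Normal]
    (h : ∀ g ∈ S, (orderOf g).Coprime p → g ∈ C) : IsPGroup p (S.map (QuotientGroup.mk' C)) := by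
  rintro ⟨_, g, hg, rfl⟩
  obtain ⟨k, hk⟩ := exists_pow_mem_pResidual (p := p) (⟨g, hg⟩ : S)
  refine ⟨k, Subtype.ext ?_⟩
  have h1 : pResidual p S ≤ C.subgroupOf S := pResidual_le fun x hx => h x x.2 (by rwa [Subgroup.orderOf_coe])
  show (QuotientGroup.mk' C g) ^ p ^ k = 1
  rw [← map_pow]
  exact (QuotientGroup.eq_one_iff _).mpr (by simpa [Subgroup.mem_subgroupOf] using h1 hk)

/-- `p`-stability when `G / O_p(G)` has an abelian normal `p'`-subgroup of `p`-power index. -/
theorem quadStable_of_abelian [Finite G] [Fact p.Prime] (hp2 : p ≠ 2) (M : Subgroup G) [M.Normal]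
    (hab : ∀ m ∈ M, ∀ n ∈ M, ⁅m, n⁆ ∈ pCore p G)
    (hcop : ∀ m ∈ M, m ^ p ∈ pCore p G → m ∈ pCore p G) (hq : IsPGroup p (G ⧸ M)) : QuadStable p G := by
  suffices key : ∀ (n : ℕ) (V : Subgroup G) [V.Normal], Nat.card V = n → IsPGroup p V → ∀ a : G,
      (∀ v ∈ V, ⁅⁅v, a⁆, a⁆ = 1) → ∀ m ∈ M, ⁅a, m⁆ ∈ stabCore p V by
    intro V _ hV a ha hquad
    have hpt : ∀ v ∈ V, ⁅⁅v, a⁆, a⁆ = 1 := fun v hv => by
      rw [← Subgroup.mem_bot, ← hquad]
      exact Subgroup.commutator_mem_commutator
        (Subgroup.commutator_mem_commutator hv (Subgroup.mem_zpowers a)) (Subgroup.mem_zpowers a)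
    set D := stabCore p V with hD
    haveI hDn : D.Normal := Subgroup.normal_comap _
    show a ∈ D
    have hOD : pCore p G ≤ D := fun x hx =>
      (le_pCore (N := (pCore p G).map (QuotientGroup.mk' (Subgroup.centralizer (V : Set G))))
        (hN := Subgroup.Normal.map inferInstance _ (QuotientGroup.mk'_surjective _))
        ((isPGroup_pCore p).map _)) (Subgroup.mem_map_of_mem _ hx)
    let π := QuotientGroup.mk' D
    have hπs : Function.Surjective π := QuotientGroup.mk'_surjective D
    have hcore : pCore p (G ⧸ D) = ⊥ := by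
      set E := (pCore p (G ⧸ D)).comap π with hE
      have hEn : E.Normal := Subgroup.normal_comap _
      have hEp : IsPGroup p (E.map (QuotientGroup.mk' (Subgroup.centralizer (V : Set G)))) := by
        refine isPGroup_map_of_pResidual fun g hg hgp => ?_
        obtain ⟨k, hk⟩ := exists_pow_eq_one_of_mem (isPGroup_pCore p) (show π g ∈ pCore p (G ⧸ D) from hg)
        have h1 : π g = 1 := orderOf_eq_one_iff.mp (Nat.eq_one_of_dvd_coprimes (hgp.pow_right k)
          (orderOf_map_dvd π g) (orderOf_dvd_of_pow_eq_one hk))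
        have h2 : (QuotientGroup.mk' (Subgroup.centralizer (V : Set G)) g) ∈ pCore p _ :=
          (QuotientGroup.eq_one_iff g).mp h1
        obtain ⟨l, hl⟩ := exists_pow_eq_one_of_mem (isPGroup_pCore p) h2
        exact (QuotientGroup.eq_one_iff g).mp (orderOf_eq_one_iff.mp (Nat.eq_one_of_dvd_coprimes
          (hgp.pow_right l) (orderOf_map_dvd (QuotientGroup.mk' (Subgroup.centralizer (V : Set G))) g) (orderOf_dvd_of_pow_eq_one hl)))
      have hle := le_pCore (N := E.map (QuotientGroup.mk' (Subgroup.centralizer (V : Set G))))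
        (hN := hEn.map _ (QuotientGroup.mk'_surjective _)) hEp
      rw [eq_bot_iff]
      intro x hx
      obtain ⟨g, rfl⟩ := hπs x
      exact (QuotientGroup.eq_one_iff g).mpr (hle (Subgroup.mem_map_of_mem _ hx))
    set Mb := M.map π with hMb
    haveI hMbn : Mb.Normal := Subgroup.Normal.map inferInstance _ hπs
    have hMbcop : ∀ y ∈ Mb, (orderOf y).Coprime p := by
      rintro _ ⟨m, hm, rfl⟩
      refine ((Fact.out : p.Prime).coprime_iff_not_dvd.mpr fun hd => ?_).symm
      obtain ⟨k, l, hl, hk⟩ := Nat.exists_eq_pow_mul_and_not_dvd (orderOf_pos (π m)).ne' p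
        (Fact.out : p.Prime).ne_one
      have h1 : π (m ^ l) = 1 := by
        have hz : m ^ l ∈ M := pow_mem hm l
        have hpow : π (m ^ l) ^ p ^ k = 1 := by
          rw [map_pow, ← pow_mul, mul_comm, ← hk]; exact pow_orderOf_eq_one _
        have hgen : ∀ g ∈ M, (orderOf g).Coprime p ∨ True := fun _ _ => Or.inr trivial
        obtain ⟨j, r, hr, hj⟩ := Nat.exists_eq_pow_mul_and_not_dvd (orderOf_pos (m ^ l)).ne' p
          (Fact.out : p.Prime).ne_one
        have h2 : (m ^ l) ^ r ∈ pCore p G := by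
          have h3 : ∀ i, ((m ^ l) ^ r) ^ p ^ i ∈ pCore p G → (m ^ l) ^ r ∈ pCore p G := by
            intro i
            induction i with
            | zero => simp
            | succ i ihi =>
              intro h
              refine ihi (hcop _ (pow_mem (pow_mem hz r) _) ?_)
              rwa [← pow_mul, ← pow_succ]
          refine h3 j ?_
          rw [← pow_mul, mul_comm, ← hj, pow_orderOf_eq_one]
          exact one_mem _
        have h4 : π (m ^ l) ^ r = 1 := by
          rw [← map_pow]; exact (QuotientGroup.eq_one_iff _).mpr (hOD h2)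
        exact orderOf_eq_one_iff.mp (Nat.eq_one_of_dvd_coprimes
          (((Fact.out : p.Prime).coprime_iff_not_dvd.mpr hr).pow_left k)
          (orderOf_dvd_of_pow_eq_one hpow) (orderOf_dvd_of_pow_eq_one h4))
      rw [map_pow] at h1
      exact hl (hd.trans (orderOf_dvd_of_pow_eq_one h1))
    have hMbab : ∀ y ∈ Mb, ∀ z ∈ Mb, y * z = z * y := by
      rintro _ ⟨m, hm, rfl⟩ _ ⟨n, hn, rfl⟩
      rw [← commutatorElement_eq_one_iff_mul_comm, ← map_commutatorElement]
      exact (QuotientGroup.eq_one_iff _).mpr (hOD (hab m hm n hn))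
    have hac : π a ∈ Subgroup.centralizer (Mb : Set (G ⧸ D)) := by
      rintro _ ⟨m, hm, rfl⟩
      refine (commutatorElement_eq_one_iff_mul_comm.mp ?_).symm
      rw [← map_commutatorElement]
      exact (QuotientGroup.eq_one_iff _).mpr (key _ V rfl hV a hpt m hm)
    set C := Subgroup.centralizer (Mb : Set (G ⧸ D)) with hC
    haveI hCn : C.Normal := Subgroup.normal_centralizer
    have hMC : Mb ≤ C := fun y hy z hz => hMbab z hz y hy
    obtain ⟨R⟩ := (inferInstance : Nonempty (Sylow p C))
    have hsup : Mb.subgroupOf C ⊔ (R : Subgroup C) = ⊤ := by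
      refine sylow_sup_eq_top_of_pResidual_le R (pResidual_le fun y hy => ?_)
      rw [Subgroup.mem_subgroupOf]
      obtain ⟨g, hg⟩ := hπs (y : G ⧸ D)
      obtain ⟨k, hk⟩ := hq (QuotientGroup.mk g)
      have hpk : (y : G ⧸ D) ^ p ^ k ∈ Mb := by
        rw [← hg, ← map_pow]
        exact Subgroup.mem_map_of_mem _ ((QuotientGroup.eq_one_iff _).mp (by simpa using hk))
      obtain ⟨j, hj⟩ := exists_pow_eq_self_of_coprime (n := p ^ k) (x := (y : G ⧸ D))
        ((hy.pow_right k).symm.coprime_dvd_right (by rw [Subgroup.orderOf_coe]))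
      rw [← hj]
      exact pow_mem hpk j
    haveI hRn : (R : Subgroup C).Normal := by
      rw [← Subgroup.normalizer_eq_top_iff, eq_top_iff, ← hsup]
      refine sup_le (fun y hy => ?_) Subgroup.le_normalizer
      rw [Subgroup.mem_normalizer_iff]
      intro z
      have h1 : y * z = z * y := Subtype.ext (z.2 (y : G ⧸ D) hy)
      rw [h1, mul_inv_cancel_right]
    haveI : (R : Subgroup C).Characteristic := Sylow.characteristic_of_normal R hRn
    have hRbot : (R : Subgroup C).map C.subtype ≤ ⊥ := hcore ▸ le_pCore (R.2.map C.subtype)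
    obtain ⟨k, hk⟩ := ha
    have hmem : (⟨π a, hac⟩ : C) ∈ (R : Subgroup C) := by
      have hp' : IsPGroup p (Subgroup.zpowers (⟨π a, hac⟩ : C)) := by
        obtain ⟨i, -, hi⟩ := (Nat.dvd_prime_pow (Fact.out : p.Prime)).mp
          (orderOf_dvd_of_pow_eq_one (show (⟨π a, hac⟩ : C) ^ p ^ k = 1 from
            Subtype.ext (by simp only [SubmonoidClass.coe_pow, OneMemClass.coe_one]; rw [← map_pow, hk, map_one])))
        exact IsPGroup.of_card (n := i) (by rw [Nat.card_zpowers, hi])
      obtain ⟨T, hT⟩ := hp'.exists_le_sylow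
      haveI : Subsingleton (Sylow p C) := by
        haveI : Unique (Sylow p C) := Sylow.unique_of_normal R hRn
        infer_instance
      rw [Subsingleton.elim R T]
      exact hT (Subgroup.mem_zpowers _)
    have := hRbot (Subgroup.mem_map_of_mem C.subtype hmem)
    exact (QuotientGroup.eq_one_iff a).mp this
  intro n
  induction n using Nat.strong_induction_on with
  | _ n ih =>
    intro V _ hn hV a hquad m hm
    subst hn
    by_cases hV0 : V = ⊥
    · have : Subgroup.centralizer (V : Set G) = ⊤ := by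
        rw [hV0, eq_top_iff]
        intro x _ y hy
        rw [Subgroup.coe_bot, Set.mem_singleton_iff] at hy
        rw [hy, one_mul, mul_one]
      show QuotientGroup.mk' _ ⁅a, m⁆ ∈ pCore p _
      rw [show QuotientGroup.mk' (Subgroup.centralizer (V : Set G)) ⁅a, m⁆ = 1 from
        (QuotientGroup.eq_one_iff _).mpr (this ▸ Subgroup.mem_top _)]
      exact one_mem _
    obtain ⟨N, ⟨hNn, hNV, hNne⟩, hmax⟩ := (Set.toFinite
      {N : Subgroup G | N.Normal ∧ N ≤ V ∧ N ≠ V}).exists_maximal ⟨⊥, inferInstance, bot_le, Ne.symm hV0⟩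
    have hNlt : Nat.card N < Nat.card V := lt_of_le_of_ne (Subgroup.card_le_of_le hNV) fun h =>
      hNne (Subgroup.eq_of_le_of_card_ge hNV h.ge)
    have hTN := ih _ hNlt N rfl (hV.to_le hNV) a (fun v hv => hquad v (hNV hv)) m hm
    let π := QuotientGroup.mk' N
    have hπs : Function.Surjective π := QuotientGroup.mk'_surjective N
    set Vb := V.map π with hVb
    haveI hVbn : Vb.Normal := Subgroup.Normal.map inferInstance _ hπs
    have hVbne : Vb ≠ ⊥ := fun e => by
      rw [hVb, Subgroup.map_eq_bot_iff, QuotientGroup.ker_mk'] at e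
      exact hNne (le_antisymm hNV e)
    have hVbmin : ∀ W : Subgroup (G ⧸ N), W.Normal → W ≤ Vb → W = ⊥ ∨ W = Vb := by
      intro W hW hWle
      by_cases hWe : W = Vb
      · exact Or.inr hWe
      left
      have hle : W.comap π ≤ V := (Subgroup.comap_mono hWle).trans (by
        rw [hVb, Subgroup.comap_map_eq, QuotientGroup.ker_mk', sup_eq_left.mpr hNV])
      have hne : W.comap π ≠ V := fun e => hWe (by
        rw [hVb, ← e, Subgroup.map_comap_eq_self_of_surjective hπs])
      have hNle : N ≤ W.comap π := fun x hx => by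
        rw [Subgroup.mem_comap, show π x = 1 from (QuotientGroup.eq_one_iff x).mpr hx]
        exact one_mem _
      have h1 := hmax ⟨hW.comap π, hle, hne⟩ hNle
      rw [eq_bot_iff]
      intro x hx
      obtain ⟨g, rfl⟩ := hπs x
      exact (QuotientGroup.eq_one_iff g).mpr (h1 hx)
    have hVbp : IsPGroup p Vb := hV.map π
    haveI : Group.IsNilpotent Vb := hVbp.isNilpotent
    obtain ⟨hVbc, q, hqp, hVbq⟩ := minimal_normal_elementary hVbne inferInstance hVbmin
    have hVbexp : ∀ x ∈ Vb, x ^ p = 1 := by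
      intro x hx
      by_cases hx1 : x = 1
      · rw [hx1, one_pow]
      obtain ⟨k, hk⟩ := exists_pow_eq_one_of_mem hVbp hx
      have h1 : orderOf x = q := by
        rcases (Nat.dvd_prime hqp).mp (orderOf_dvd_of_pow_eq_one (hVbq x hx)) with h | h
        · exact absurd (orderOf_eq_one_iff.mp h) hx1
        · exact h
      have h2 : q = p := (Nat.prime_dvd_prime_iff_eq hqp Fact.out).mp
        (hqp.dvd_of_dvd_pow (h1 ▸ orderOf_dvd_of_pow_eq_one hk))
      rw [← h2]
      exact hVbq x hx
    have hOcent : ∀ x ∈ pCore p G, π x ∈ Subgroup.centralizer (Vb : Set (G ⧸ N)) := by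
      set O := (pCore p G).map π with hO
      haveI hOn : O.Normal := Subgroup.Normal.map inferInstance _ hπs
      set X := Vb ⊔ O with hX
      have hXp : IsPGroup p X := hVbp.to_sup_of_normal_right ((isPGroup_pCore p).map π)
      haveI : Group.IsNilpotent X := hXp.isNilpotent
      haveI : (Vb.subgroupOf X).Normal := Subgroup.normal_subgroupOf
      have hne : Vb.subgroupOf X ≠ ⊥ := by
        rw [ne_eq, Subgroup.subgroupOf_eq_bot]
        exact fun hd => hVbne (hd.eq_bot_of_le le_sup_left)
      haveI : Nontrivial ↥(Vb.subgroupOf X ⊓ Subgroup.center X) :=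
        (Subgroup.nontrivial_iff_ne_bot _).mpr (inf_center_ne_bot_of_nilpotent hne)
      obtain ⟨⟨z, hz, hzc⟩, hz1⟩ := exists_ne (1 : ↥(Vb.subgroupOf X ⊓ Subgroup.center X))
      haveI : (Subgroup.centralizer (O : Set (G ⧸ N))).Normal := Subgroup.normal_centralizer
      have hfull : Vb ⊓ Subgroup.centralizer (O : Set (G ⧸ N)) = Vb := by
        refine (hVbmin _ inferInstance inf_le_left).resolve_left fun e => hz1 (Subtype.ext (Subtype.ext ?_))
        have : (z : G ⧸ N) ∈ Vb ⊓ Subgroup.centralizer (O : Set (G ⧸ N)) :=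
          ⟨hz, fun o ho => congrArg Subtype.val (Subgroup.mem_center_iff.mp hzc ⟨o, Subgroup.mem_sup_right ho⟩)⟩
        rw [e] at this
        exact Subgroup.mem_bot.mp this
      intro x hx v hv
      rw [← hfull] at hv
      exact (hv.2 (π x) (Subgroup.mem_map_of_mem π hx)).symm
    have hVb1 : ⁅π a, π m⁆ ∈ Subgroup.centralizer (Vb : Set (G ⧸ N)) := by
      refine commutator_mem_centralizer_of_quadratic hp2 Vb
        (fun x hx y hy => Subgroup.mul_comm_of_mem_isMulCommutative Vb hx hy) hVbexp (M.map π) ?_ ?_ ?_ ?_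
        (Subgroup.mem_map_of_mem π hm)
      · rintro _ ⟨x, hx, rfl⟩ _ ⟨y, hy, rfl⟩
        rw [← map_commutatorElement]
        exact hOcent _ (hab x hx y hy)
      · rintro _ ⟨x, hx, rfl⟩ hxp
        obtain ⟨j, r, hr, hj⟩ := Nat.exists_eq_pow_mul_and_not_dvd (orderOf_pos x).ne' p
          (Fact.out : p.Prime).ne_one
        have h3 : ∀ i, (x ^ r) ^ p ^ i ∈ pCore p G → x ^ r ∈ pCore p G := by
          intro i
          induction i with
          | zero => simp
          | succ i ihi =>
            intro h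
            refine ihi (hcop _ (pow_mem (pow_mem hx r) _) ?_)
            rwa [← pow_mul, ← pow_succ]
        have h2 : π x ^ r ∈ Subgroup.centralizer (Vb : Set (G ⧸ N)) := by
          rw [← map_pow]
          refine hOcent _ (h3 j ?_)
          rw [← pow_mul, mul_comm, ← hj, pow_orderOf_eq_one]
          exact one_mem _
        set C := Subgroup.centralizer (Vb : Set (G ⧸ N))
        haveI : C.Normal := Subgroup.normal_centralizer
        rw [← QuotientGroup.eq_one_iff] at h2 hxp ⊢
        rw [QuotientGroup.mk_pow] at h2 hxp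
        exact orderOf_eq_one_iff.mp (Nat.eq_one_of_dvd_coprimes
          ((Fact.out : p.Prime).coprime_iff_not_dvd.mpr hr)
          (orderOf_dvd_of_pow_eq_one hxp) (orderOf_dvd_of_pow_eq_one h2))
      · rintro _ ⟨x, hx, rfl⟩
        exact ⟨a * x * a⁻¹, (inferInstance : M.Normal).conj_mem x hx a, by simp⟩
      · rintro _ ⟨v, hv, rfl⟩
        rw [← map_commutatorElement, ← map_commutatorElement, hquad v hv, map_one]
    set S := stabCore p N ⊓ (Subgroup.centralizer (Vb : Set (G ⧸ N))).comap π with hS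
    have hmem : ⁅a, m⁆ ∈ S := ⟨hTN, show π ⁅a, m⁆ ∈ Subgroup.centralizer (Vb : Set (G ⧸ N)) by
      rw [map_commutatorElement]; exact hVb1⟩
    have hSp : IsPGroup p (S.map (QuotientGroup.mk' (Subgroup.centralizer (V : Set G)))) := by
      refine isPGroup_map_of_pResidual fun g hg hgp => ?_
      obtain ⟨k, hk⟩ := exists_pow_eq_one_of_mem (isPGroup_pCore p) hg.1
      have hgN : g ∈ Subgroup.centralizer (N : Set G) :=
        (QuotientGroup.eq_one_iff g).mp (orderOf_eq_one_iff.mp (Nat.eq_one_of_dvd_coprimes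
          (hgp.pow_right k) (orderOf_map_dvd (QuotientGroup.mk' (Subgroup.centralizer (N : Set G))) g) (orderOf_dvd_of_pow_eq_one hk)))
      intro v hv
      set c := v⁻¹ * (g * v * g⁻¹) with hc
      have hcN : c ∈ N := by
        refine (QuotientGroup.eq_one_iff (N := N) c).mp ?_
        have h1 := hg.2 (π v) (Subgroup.mem_map_of_mem π hv)
        show π c = 1
        rw [hc, map_mul, map_mul, map_mul, map_inv, map_inv, ← h1]
        group
      have hgc : g * c * g⁻¹ = c := by rw [← hgN c hcN, mul_inv_cancel_right]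
      have hiter : ∀ n : ℕ, g ^ n * v * (g ^ n)⁻¹ = v * c ^ n := by
        intro n
        induction n with
        | zero => simp
        | succ n ihn =>
          calc g ^ (n + 1) * v * (g ^ (n + 1))⁻¹ = g * (g ^ n * v * (g ^ n)⁻¹) * g⁻¹ := by
                rw [pow_succ']; group
            _ = (g * v * g⁻¹) * (g * c ^ n * g⁻¹) := by rw [ihn]; group
            _ = (v * c) * c ^ n := by rw [← conj_pow (a := g) (b := c), hgc, hc, mul_inv_cancel_left]
            _ = v * c ^ (n + 1) := by rw [mul_assoc, ← pow_succ']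
      have h1 := hiter (orderOf g)
      rw [pow_orderOf_eq_one, inv_one, mul_one, one_mul, left_eq_mul] at h1
      obtain ⟨l, hl⟩ := exists_pow_eq_one_of_mem (hV.to_le hNV) hcN
      have h2 : c = 1 := orderOf_eq_one_iff.mp (Nat.eq_one_of_dvd_coprimes (hgp.pow_right l)
        (orderOf_dvd_of_pow_eq_one h1) (orderOf_dvd_of_pow_eq_one hl))
      rw [hc, inv_mul_eq_one] at h2
      calc v * g = (g * v * g⁻¹) * g := by rw [← h2]
        _ = g * v := by group
    haveI : (stabCore p N).Normal := Subgroup.normal_comap _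
    haveI : (Subgroup.centralizer (Vb : Set (G ⧸ N))).Normal := Subgroup.normal_centralizer
    haveI : ((Subgroup.centralizer (Vb : Set (G ⧸ N))).comap π).Normal := Subgroup.normal_comap _
    haveI : S.Normal := inferInstance
    exact le_pCore (N := S.map (QuotientGroup.mk' (Subgroup.centralizer (V : Set G))))
      (hN := Subgroup.Normal.map inferInstance _ (QuotientGroup.mk'_surjective _)) hSp
      (Subgroup.mem_map_of_mem _ hmem)

end CfsgLib.ZJ
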