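import Cfsg.Agent.Lib.ZJ.Complement
import Cfsg.Agent.Lib.ZJ.StronglyClosed

/-!
The Glauberman–Thompson theorem for a strongly closed subgroup.
-/

set_option autoImplicit false
set_option maxHeartbeats 1000000

namespace CfsgLib.ZJ

open Subgroup Cfsg
open scoped Pointwise commutatorElement

universe u
variable {G : Type u} [Group G] {p : ℕ}

/-- **Glauberman–Thompson for a strongly closed subgroup.** -/
theorem hasNormalPComplement_of_normalizer_zj_closed {G : Type u} [Group G] [Finite G] [Fact p.Prime] (hp2 : p ≠ 2)
    {e : ℕ} (he : e = 0 ∨ e = p) (P : Sylow p G) (D : Subgroup G) (hD : Cfsg.IsStronglyClosed D (P : Subgroup G))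
    (hN : HasNormalPComplement p (Subgroup.normalizer (zj e D : Set G))) :
    HasNormalPComplement p G := by
  induction hn : Nat.card G using Nat.strong_induction_on generalizing G with
  | h n ih =>
    subst hn
    have hp : p.Prime := Fact.out
    rcases eq_or_ne D ⊥ with rfl | hDne
    · have h0 : zj e (⊥ : Subgroup G) = ⊥ := le_bot_iff.mp (zj_le e _)
      rw [h0, Subgroup.normalizer_eq_top_iff.mpr inferInstance] at hN
      exact hasNormalPComplement_of_equiv Subgroup.topEquiv hN
    have hconj : ∀ T : Sylow p G, ∃ DT : Subgroup G, Cfsg.IsStronglyClosed DT (T : Subgroup G) ∧ DT ≠ ⊥ ∧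
        HasNormalPComplement p (Subgroup.normalizer (zj e DT : Set G)) := by
      intro T
      obtain ⟨g, hg⟩ := MulAction.exists_smul_eq G P T
      refine ⟨MulAut.conj g • D, ?_, ?_, ?_⟩
      · rw [← hg, Sylow.coe_subgroup_smul]
        refine ⟨Subgroup.pointwise_smul_le_pointwise_smul_iff.mpr hD.1, fun x hx y hy => ?_⟩
        rw [mem_conj_smul_iff] at hx hy ⊢
        have e1 : g⁻¹ * (y * x * y⁻¹) * g = (g⁻¹ * y * g) * (g⁻¹ * x * g) * (g⁻¹ * y * g)⁻¹ := by group
        rw [e1] at hy ⊢
        exact hD.2 _ hx _ hy
      · intro h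
        refine hDne (le_bot_iff.mp fun x hx => ?_)
        have h1 : g * x * g⁻¹ ∈ MulAut.conj g • D := by
          rw [mem_conj_smul_iff]; simpa [mul_assoc] using hx
        rw [h, Subgroup.mem_bot] at h1
        exact Subgroup.mem_bot.mpr (conj_eq_one_iff.mp h1)
      · rw [zj_conj, normalizer_conj_smul, Subgroup.pointwise_smul_def]
        exact hasNormalPComplement_map _ hN
    have hsub : ∀ (X : Subgroup G) (R : Sylow p X) (D' : Subgroup G), X ≠ ⊤ →
        D' ≤ (R : Subgroup X).map X.subtype →
        (∀ x ∈ D', ∀ g ∈ X, g * x * g⁻¹ ∈ (R : Subgroup X).map X.subtype → g * x * g⁻¹ ∈ D') →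
        HasNormalPComplement p (Subgroup.normalizer (zj e D' : Set G)) →
        HasNormalPComplement p X := by
      intro X R D' hX hle hcl h
      have hD'X : D' ≤ X := hle.trans (Subgroup.map_subtype_le _)
      refine ih _ (card_lt_of_lt_top hX.lt_top) R (D'.subgroupOf X)
        ⟨fun x hx => ?_, fun x hx g hg => hcl x hx g g.2 ⟨g * x * g⁻¹, hg, rfl⟩⟩ ?_ rfl
      · obtain ⟨y, hy, e'⟩ := hle hx
        rwa [Subtype.ext e'] at hy
      · refine hasNormalPComplement_of_isPGroup_map X.subtype_injective (hasNormalPComplement_of_le ?_ h)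
        refine (Subgroup.le_normalizer_map _).trans ?_
        rw [← zj_map e X.subtype_injective, Subgroup.map_subgroupOf_eq_of_le hD'X]
    by_contra hG
    set bad : Set (Subgroup G) := {Q | IsPGroup p Q ∧ Q ≠ ⊥ ∧
      ¬ HasNormalPComplement p (Subgroup.normalizer (Q : Set G))} with hbad
    let f : Subgroup G → ℕ := fun Q => p ^ (Nat.card (Subgroup.normalizer (Q : Set G))).factorization p
    have hne : bad.Nonempty := by
      by_contra h
      rw [Set.not_nonempty_iff_eq_empty] at h
      refine hG (hasNormalPComplement_of_local fun Q hQ hQ0 => ?_)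
      by_contra h'
      exact (Set.eq_empty_iff_forall_notMem.mp h) Q ⟨hQ, hQ0, h'⟩
    obtain ⟨H₁, hH₁, hmax₁⟩ := Set.exists_max_image bad f (Set.toFinite _) hne
    obtain ⟨H, ⟨hH, hfH⟩, hmax₂⟩ := Set.exists_max_image {Q | Q ∈ bad ∧ f Q = f H₁}
      (fun Q => Nat.card Q) (Set.toFinite _) ⟨H₁, hH₁, rfl⟩
    -- the maximal bad subgroup is normal
    have hNtop : Subgroup.normalizer (H : Set G) = ⊤ := by
      by_contra hNne
      set N := Subgroup.normalizer (H : Set G) with hNdef
      obtain ⟨R⟩ := (inferInstance : Nonempty (Sylow p N))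
      set R' := (R : Subgroup N).map N.subtype with hR'
      have hR'p : IsPGroup p R' := R.2.map _
      obtain ⟨T, hT⟩ := hR'p.exists_le_sylow
      obtain ⟨DT, hDT, hDT0, hDTN⟩ := hconj T
      by_cases heq : R' = (T : Subgroup G)
      · exact hH.2.2 (hsub N R DT hNne (by rw [← hR', heq]; exact hDT.1)
          (fun x hx g _ hg => hDT.2 x hx g (by rwa [← hR', heq] at hg)) hDTN)
      have hTD : (T : Subgroup G) ≤ Subgroup.normalizer (DT : Set G) := fun s hs =>
        Local.mem_normalizer_of_map_conj_eq (Subgroup.eq_of_le_of_card_ge (Local.map_conj_le fun x hx =>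
          hDT.2 x hx s (mul_mem (mul_mem hs (hDT.1 hx)) (inv_mem hs)))
          (Subgroup.card_map_of_injective (MulAut.conj s).injective).ge)
      have hHR : H ≤ R' := by
        have h1 : H.subgroupOf N ≤ (R : Subgroup N) := by
          haveI : (H.subgroupOf N).Normal := Subgroup.normal_in_normalizer
          exact (le_pCore (N := H.subgroupOf N) hH.1.comap_subtype).trans (pCore_le_sylow R)
        intro x hx
        exact ⟨⟨x, Subgroup.le_normalizer hx⟩, h1 hx, rfl⟩
      have hR'0 : DT ⊓ R' ≠ ⊥ := by
        -- a central element of `T` in `DT` lies in `R'`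
        have hnT : ((DT.subgroupOf (T : Subgroup G))).Normal :=
          ⟨fun a ha s => (Subgroup.mem_normalizer_iff.mp (hTD s.2) a).mp ha⟩
        haveI : Group.IsNilpotent (T : Subgroup G) := T.2.isNilpotent
        have hb : DT.subgroupOf (T : Subgroup G) ≠ ⊥ := by
          rw [Ne, Subgroup.subgroupOf_eq_bot]
          exact fun hd => hDT0 (le_bot_iff.mp (hd le_rfl hDT.1))
        obtain ⟨z, hz, hz1⟩ := (Subgroup.bot_or_exists_ne_one _).resolve_left
          (CfsgLib.inf_center_ne_bot_of_nilpotent hb)
        have hzN : (z : G) ∈ N := Subgroup.mem_normalizer_iff.mpr fun x => by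
          constructor <;> intro hx
          · have := Subgroup.mem_center_iff.mp hz.2 ⟨x, hT (hHR hx)⟩
            have h' : x * z = z * x := congrArg Subtype.val this
            rwa [← h', mul_inv_cancel_right]
          · have h1 := Subgroup.mem_center_iff.mp hz.2 ⟨_, hT (hHR hx)⟩
            have h2 : ((z : G) * x * (z : G)⁻¹) * z = z * ((z : G) * x * (z : G)⁻¹) := congrArg Subtype.val h1
            have h3 : x = (z : G) * x * (z : G)⁻¹ := by
              have h4 : (z : G) * x = z * ((z : G) * x * (z : G)⁻¹) := by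
                rw [← h2]; group
              exact mul_left_cancel h4
            rwa [← h3] at hx
        have hRT : ((T : Subgroup G) ⊓ N).subgroupOf N = (R : Subgroup N) :=
          R.3 (IsPGroup.comap_subtype (T.2.to_le inf_le_left)) fun r hr =>
            ⟨hT ⟨r, hr, rfl⟩, r.2⟩
        have hzR : (z : G) ∈ R' := by
          have : (⟨(z : G), hzN⟩ : N) ∈ (R : Subgroup N) := hRT ▸ (⟨z.2, hzN⟩ : (z : G) ∈ (T : Subgroup G) ⊓ N)
          exact ⟨_, this, rfl⟩
        intro h
        have hmem : (z : G) ∈ DT ⊓ R' := ⟨hz.1, hzR⟩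
        rw [h, Subgroup.mem_bot] at hmem
        exact hz1 (Subtype.ext hmem)
      set X := zj e (DT ⊓ R') with hX
      have hlt := inf_normalizer_lt T hT heq
      have hXgood : HasNormalPComplement p (Subgroup.normalizer (X : Set G)) := by
        by_contra hXb
        have hle := hmax₁ X ⟨hR'p.to_le ((zj_le e _).trans inf_le_right), zj_ne_bot he (hR'p.to_le inf_le_right) hR'0, hXb⟩
        rw [← hfH] at hle
        have h1 : Nat.card ↥((T : Subgroup G) ⊓ Subgroup.normalizer (R' : Set G)) ≤ f X :=
          card_le_pPart (fun x hx => normalizer_le_normalizer_zj e _ (Local.mem_normalizer_of_map_conj_eq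
            (Subgroup.eq_of_le_of_card_ge (Local.map_conj_le fun y hy =>
              ⟨(Subgroup.mem_normalizer_iff.mp (hTD hx.1) y).mp hy.1, (Subgroup.mem_normalizer_iff.mp hx.2 y).mp hy.2⟩)
              (Subgroup.card_map_of_injective (MulAut.conj x).injective).ge))) (T.2.to_le inf_le_left)
        have h2 : Nat.card R' = f H := by
          rw [hR', Subgroup.card_map_of_injective N.subtype_injective]
          exact R.card_eq_multiplicity
        have h3 : Nat.card R' < Nat.card ↥((T : Subgroup G) ⊓ Subgroup.normalizer (R' : Set G)) :=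
          lt_of_le_of_ne (Subgroup.card_le_of_le hlt.le) fun h =>
            hlt.ne (Subgroup.eq_of_le_of_card_ge hlt.le h.ge)
        omega
      exact hH.2.2 (hsub N R (DT ⊓ R') hNne inf_le_right (fun x hx g _ hg => ⟨hDT.2 x hx.1 g (hT hg), hg⟩) hXgood)
    haveI hHn : H.Normal := Subgroup.normalizer_eq_top_iff.mp hNtop
    set O := pCore p G with hO
    have hHO : H ≤ O := le_pCore hH.1
    have hfull : f H = p ^ (Nat.card G).factorization p := by
      simp only [f, hNtop, Subgroup.card_top]
    have hgoodX : ∀ X : Subgroup G, IsPGroup p X → O < X → ∀ T : Sylow p G,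
        (T : Subgroup G) ≤ Subgroup.normalizer (X : Set G) →
        HasNormalPComplement p (Subgroup.normalizer (X : Set G)) := by
      intro X hXp hOX T hT
      by_contra hXb
      have hX0 : X ≠ ⊥ := fun e => (bot_le (a := O)).not_gt (e ▸ hOX)
      have h1 : f H ≤ f X := by
        rw [hfull, ← T.card_eq_multiplicity]
        exact card_le_pPart hT T.2
      have h2 : f X = f H₁ := le_antisymm (hmax₁ X ⟨hXp, hX0, hXb⟩) (hfH ▸ h1)
      have h3 := hmax₂ X ⟨⟨hXp, hX0, hXb⟩, h2⟩
      exact (lt_of_lt_of_le (lt_of_le_of_lt hHO hOX) le_rfl).ne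
        (Subgroup.eq_of_le_of_card_ge (hHO.trans hOX.le) h3)
    -- `O_{p'}(G) = 1`
    have hK1 : pPrimeCore p G = ⊥ := by
      by_contra hne'
      set K := pPrimeCore p G with hK
      let π := QuotientGroup.mk' K
      have hs : Function.Surjective π := QuotientGroup.mk'_surjective K
      have hlt : Nat.card (G ⧸ K) < Nat.card G := by
        rw [Subgroup.card_eq_card_quotient_mul_card_subgroup K]
        haveI : Nontrivial K := (Subgroup.nontrivial_iff_ne_bot K).mpr hne'
        exact lt_mul_of_one_lt_right Nat.card_pos Finite.one_lt_card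
      have hdisj : ∀ A : Subgroup G, IsPGroup p A → Disjoint A K := by
        intro A hA
        obtain ⟨k, hk⟩ := hA.exists_card_eq
        exact Subgroup.disjoint_of_coprime_natCard (by
          rw [hk]; exact ((card_pPrimeCore_coprime p).pow_right k).symm)
      have hinj : Set.InjOn π (D : Set G) := by
        intro x hx y hy hxy
        replace hx := hD.1 hx
        replace hy := hD.1 hy
        have h1 : x⁻¹ * y ∈ K := QuotientGroup.eq.mp hxy
        exact inv_mul_eq_one.mp (Subgroup.disjoint_def.mp (hdisj _ P.2) (mul_mem (inv_mem hx) hy) h1)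
      set Z := zj e D with hZ
      have hZmap : zj e (D.map π) = Z.map π := zj_map_of_injOn e π _ hinj
      have hnorm : Subgroup.normalizer ((Z.map π : Subgroup (G ⧸ K)) : Set (G ⧸ K)) ≤
          (Subgroup.normalizer (Z : Set G)).map π := by
        intro y hy
        obtain ⟨g, rfl⟩ := hs y
        set Y := Z ⊔ K with hY
        set Z' := MulAut.conj g • Z with hZ'
        have hZ'Y : Z' ≤ Y := fun x hx => by
          have h1 : π x ∈ Z.map π := by
            have h2 : π (g⁻¹ * x * g) ∈ Z.map π := Subgroup.mem_map_of_mem π (mem_conj_smul_iff.mp hx)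
            have h3 := (Subgroup.mem_normalizer_iff.mp hy _).mp h2
            simpa [mul_assoc] using h3
          have h4 : x ∈ (Z.map π).comap π := h1
          rwa [Subgroup.comap_map_eq, QuotientGroup.ker_mk'] at h4
        haveI : (K.subgroupOf Y).Normal := Subgroup.normal_subgroupOf
        have hcK : Nat.card (K.subgroupOf Y) = Nat.card K :=
          Nat.card_congr (Subgroup.subgroupOfEquivOfLe (le_sup_right : K ≤ Y)).toEquiv
        have hZp : IsPGroup p Z := P.2.to_le ((zj_le e _).trans hD.1)
        have hcomp : Subgroup.IsComplement' (K.subgroupOf Y) (Z.subgroupOf Y) := by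
          refine isComplement'_of_disjoint_and_mul_eq_univ ?_ ?_
          · rw [Subgroup.disjoint_def]
            intro x hx hx'
            exact Subtype.ext (Subgroup.disjoint_def.mp (hdisj _ hZp) hx' hx)
          · rw [← Subgroup.normal_mul, ← Subgroup.subgroupOf_sup le_sup_right le_sup_left, sup_comm,
              Subgroup.subgroupOf_self, Subgroup.coe_top]
        obtain ⟨k, hk⟩ := hZp.exists_card_eq
        have hcop : (Nat.card (K.subgroupOf Y)).Coprime (K.subgroupOf Y).index := by
          rw [hcK, hcomp.symm.index_eq_card, Nat.card_congr (Subgroup.subgroupOfEquivOfLe le_sup_left).toEquiv, hk]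
          exact (card_pPrimeCore_coprime p).pow_right k
        have hcomp' : Subgroup.IsComplement' (K.subgroupOf Y) (Z'.subgroupOf Y) := by
          refine isComplement'_of_card hcop ?_
          rw [Nat.card_congr (Subgroup.subgroupOfEquivOfLe hZ'Y).toEquiv, hZ', card_conj_smul,
            hcomp.symm.index_eq_card, Nat.card_congr (Subgroup.subgroupOfEquivOfLe le_sup_left).toEquiv]
        haveI : Group.IsNilpotent (Y ⧸ K.subgroupOf Y) := by
          refine (IsPGroup.of_card (p := p) (n := k) ?_).isNilpotent
          rw [← Subgroup.index_eq_card, hcomp.symm.index_eq_card,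
            Nat.card_congr (Subgroup.subgroupOfEquivOfLe le_sup_left).toEquiv, hk]
        obtain ⟨u, hu, huZ⟩ := complements_conj_mem hcop (Or.inr inferInstance) hcomp hcomp'
        have h := conj_subgroupOf le_sup_left hZ'Y huZ
        refine ⟨(u : G)⁻¹ * g, ?_, ?_⟩
        · rw [SetLike.mem_coe, Subgroup.mem_normalizer_iff]
          have h2 : MulAut.conj ((u : G)⁻¹ * g) • Z = Z := by
            rw [← conj_smul_mul, ← hZ', ← h, conj_smul_mul, inv_mul_cancel, map_one, one_smul]
          intro x
          conv_rhs => rw [← h2, mem_conj_smul_iff]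
          simp [mul_assoc]
        · rw [map_mul, map_inv, show π (u : G) = 1 from (QuotientGroup.eq_one_iff _).mpr hu, inv_one, one_mul]
      refine hG ?_
      have hDq : Cfsg.IsStronglyClosed (D.map π) ((P.mapSurjective hs : Subgroup (G ⧸ K))) := by
        refine ⟨Subgroup.map_mono hD.1, ?_⟩
        rintro _ ⟨x, hx, rfl⟩ gb hgb
        obtain ⟨g, rfl⟩ := hs gb
        rw [← map_mul, ← map_inv, ← map_mul] at hgb ⊢
        set y := g * x * g⁻¹ with hy
        have hyPK : y ∈ (P : Subgroup G) ⊔ K := by
          have h1 : y ∈ ((P : Subgroup G).map π).comap π := hgb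
          rwa [Subgroup.comap_map_eq, QuotientGroup.ker_mk'] at h1
        set Y := (P : Subgroup G) ⊔ K with hY
        set PY : Sylow p Y := P.subtype le_sup_left
        have hyp : IsPGroup p ((Subgroup.zpowers y).subgroupOf Y) := by
          refine IsPGroup.comap_subtype ?_
          have h2 := (P.2.to_le hD.1).to_le (Subgroup.zpowers_le.mpr hx)
          have h3 : (Subgroup.zpowers x).map (MulAut.conj g).toMonoidHom = Subgroup.zpowers y := by
            rw [MonoidHom.map_zpowers]; rfl
          rw [← h3]; exact h2.map _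
        obtain ⟨S, hS⟩ := hyp.exists_le_sylow
        obtain ⟨u, hu⟩ := MulAction.exists_smul_eq Y S PY
        have h4 : (u : G) * y * (u : G)⁻¹ ∈ (P : Subgroup G) := by
          have h5 : MulAut.conj u ⟨y, hyPK⟩ ∈ (u • S : Sylow p Y).1 :=
            Subgroup.smul_mem_pointwise_smul (⟨y, hyPK⟩ : Y) (MulAut.conj u) (S : Subgroup Y)
              (hS (Subgroup.mem_subgroupOf.mpr (Subgroup.mem_zpowers y)))
          rw [hu] at h5
          exact h5
        obtain ⟨k, hk, q, hq, hkq⟩ : ∃ k ∈ K, ∃ q ∈ (P : Subgroup G), q * k = (u : G) := by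
          obtain ⟨k, hk, q, hq, hkq⟩ := Subgroup.mem_sup_of_normal_left.mp
            ((sup_comm (P : Subgroup G) K).le u.2)
          exact ⟨q⁻¹ * k * q, by simpa using (inferInstance : K.Normal).conj_mem k hk q⁻¹, q, hq, by rw [← hkq]; group⟩
        have h6 : k * y * k⁻¹ ∈ (P : Subgroup G) := by
          have := mul_mem (mul_mem (inv_mem hq) h4) hq
          rw [← hkq] at this
          simpa [mul_assoc] using this
        have h7 : k * y * k⁻¹ ∈ D := by
          have := hD.2 x hx (k * g) (by simpa [hy, mul_assoc] using h6)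
          simpa [hy, mul_assoc] using this
        refine ⟨_, h7, ?_⟩
        rw [map_mul, map_mul, map_inv, show π k = 1 from (QuotientGroup.eq_one_iff k).mpr hk, one_mul, inv_one, mul_one]
      have hq := ih _ hlt (P.mapSurjective hs) (D.map π) hDq (by
        show HasNormalPComplement p (Subgroup.normalizer (zj e (D.map π) : Set (G ⧸ K)))
        rw [hZmap]
        exact hasNormalPComplement_of_le hnorm (hasNormalPComplement_map π hN)) rfl
      rw [hasNormalPComplement_iff] at hq ⊢
      have hb : pPrimeCore p (G ⧸ K) = ⊥ := pPrimeCore_quotient_eq_bot p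
      intro x
      obtain ⟨k, hk⟩ := hq (QuotientGroup.mk x)
      refine ⟨k, ?_⟩
      rw [← QuotientGroup.mk_pow, QuotientGroup.eq_one_iff, hb, Subgroup.mem_bot] at hk
      exact hk
    -- `G / O_p(G)` has a normal `p`-complement
    have hPO : ¬ D ≤ O := by
      intro h
      refine hG ?_
      have hDn : D.Normal := ⟨fun x hx g =>
        hD.2 x hx g (pCore_le_sylow P ((inferInstance : O.Normal).conj_mem x (h hx) g))⟩
      have h1 : Subgroup.normalizer (zj e D : Set G) = ⊤ := by
        rw [eq_top_iff]
        refine le_trans ?_ (normalizer_le_normalizer_zj e _)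
        exact (Subgroup.normalizer_eq_top_iff.mpr hDn).ge
      rw [h1] at hN
      exact hasNormalPComplement_of_equiv Subgroup.topEquiv hN
    let π := QuotientGroup.mk' O
    have hs : Function.Surjective π := QuotientGroup.mk'_surjective O
    have hO0 : O ≠ ⊥ := fun e => hH.2.1 (le_bot_iff.mp (e ▸ hHO))
    have hltQ : Nat.card (G ⧸ O) < Nat.card G := by
      rw [Subgroup.card_eq_card_quotient_mul_card_subgroup O]
      haveI : Nontrivial O := (Subgroup.nontrivial_iff_ne_bot O).mpr hO0
      exact lt_mul_of_one_lt_right Nat.card_pos Finite.one_lt_card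
    have hQnpc : HasNormalPComplement p (G ⧸ O) := by
      refine ih _ hltQ (P.mapSurjective hs) (D.map π) ?_ ?_ rfl
      · refine ⟨Subgroup.map_mono hD.1, ?_⟩
        rintro _ ⟨x, hx, rfl⟩ gb hgb
        obtain ⟨g, rfl⟩ := hs gb
        rw [← map_mul, ← map_inv, ← map_mul] at hgb ⊢
        have h1 : g * x * g⁻¹ ∈ ((P : Subgroup G).map π).comap π := hgb
        rw [Subgroup.comap_map_eq, QuotientGroup.ker_mk', sup_eq_left.mpr (pCore_le_sylow P)] at h1
        exact ⟨_, hD.2 x hx g h1, rfl⟩
      set T : Subgroup (G ⧸ O) := D.map π with hT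
      have hTp : IsPGroup p T := (P.2.to_le hD.1).map π
      have hT0 : T ≠ ⊥ := fun e => hPO (by
        rw [hT, Subgroup.map_eq_bot_iff, QuotientGroup.ker_mk'] at e
        exact e)
      set Z := zj e T with hZ
      have hZp : IsPGroup p Z := hTp.to_le (zj_le e T)
      set X := Z.comap π with hX
      have hOX : O < X := by
        refine lt_of_le_of_ne (fun x hx => ?_) fun h => ?_
        · rw [hX, Subgroup.mem_comap, show π x = 1 from (QuotientGroup.eq_one_iff x).mpr hx]
          exact one_mem _
        · refine zj_ne_bot he hTp hT0 ((Subgroup.eq_bot_iff_forall _).mpr fun y hy => ?_)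
          obtain ⟨g, rfl⟩ := hs y
          exact (QuotientGroup.eq_one_iff g).mpr (h.ge hy)
      have hXp : IsPGroup p X := hZp.comap_of_ker_isPGroup π (by
        rw [QuotientGroup.ker_mk']; exact isPGroup_pCore p)
      have hNX : Subgroup.normalizer (X : Set G) = (Subgroup.normalizer (Z : Set (G ⧸ O))).comap π :=
        (Subgroup.comap_normalizer_eq_of_surjective Z hs).symm
      have hPX : (P : Subgroup G) ≤ Subgroup.normalizer (X : Set G) := by
        rw [hNX]
        refine fun x hx => normalizer_le_normalizer_zj e T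
          (Local.mem_normalizer_of_map_conj_eq (Subgroup.eq_of_le_of_card_ge (Local.map_conj_le ?_)
            (Subgroup.card_map_of_injective (MulAut.conj (π x)).injective).ge))
        rintro _ ⟨d, hd, rfl⟩
        exact ⟨x * d * x⁻¹, hD.2 d hd x (mul_mem (mul_mem hx (hD.1 hd)) (inv_mem hx)), by simp⟩
      have h1 := hgoodX X hXp hOX P hPX
      rw [hNX] at h1
      have h2 := hasNormalPComplement_map π h1
      rwa [Subgroup.map_comap_eq_self_of_surjective hs] at h2
    set Kb := pPrimeCore p (G ⧸ O) with hKb
    set M := Kb.comap π with hM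
    haveI hMn : M.Normal := Subgroup.normal_comap _
    have hQp : IsPGroup p ((G ⧸ O) ⧸ Kb) := isPGroup_quotient_of_hasNormalPComplement hQnpc
    have hKcop : ∀ m ∈ M, ∀ k : ℕ, m ^ p ^ k ∈ O → m ∈ O := by
      intro m hm k hmp
      have hmK : π m ∈ Kb := Subgroup.mem_comap.mp hm
      have h1 : (orderOf (π m)).Coprime p :=
        Nat.Coprime.coprime_dvd_left (Subgroup.orderOf_dvd_natCard Kb hmK)
          (card_pPrimeCore_coprime (G := G ⧸ O) p)
      have h2 : (π m) ^ p ^ k = 1 := by
        rw [← map_pow]
        exact (QuotientGroup.eq_one_iff (N := O) _).mpr hmp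
      have h3 : π m = 1 := orderOf_eq_one_iff.mp
        (Nat.eq_one_of_dvd_coprimes (h1.pow_right k) dvd_rfl (orderOf_dvd_of_pow_eq_one h2))
      exact (QuotientGroup.eq_one_iff (N := O) m).mp h3
    have hcop1 : ∀ m ∈ M, m ^ p ∈ O → m ∈ O := fun m hm h => hKcop m hm 1 (by rwa [pow_one])
    have hpel : ∀ m ∈ M, (∃ k, m ^ p ^ k = 1) → m ∈ O := fun m hm ⟨k, hk⟩ =>
      hKcop m hm k (by rw [hk]; exact one_mem _)
    have hMq : IsPGroup p (G ⧸ M) := by
      intro x
      obtain ⟨g, rfl⟩ := QuotientGroup.mk'_surjective M x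
      obtain ⟨k, hk⟩ := hQp (QuotientGroup.mk (π g))
      refine ⟨k, ?_⟩
      rw [← map_pow]
      refine (QuotientGroup.eq_one_iff _).mpr ?_
      show π (g ^ p ^ k) ∈ Kb
      rw [map_pow]
      exact (QuotientGroup.eq_one_iff _).mp (by rw [QuotientGroup.mk_pow]; exact hk)
    -- `C(O) ≤ O`
    have hC : Subgroup.centralizer (O : Set G) ≤ O := by
      set C := Subgroup.centralizer (O : Set G) with hCdef
      haveI : C.Normal := Subgroup.normal_centralizer
      set Y := M ⊓ C with hY
      haveI : Y.Normal := inferInstance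
      obtain ⟨R⟩ := (inferInstance : Nonempty (Sylow p Y))
      have hRc : ∀ r ∈ (R : Subgroup Y), ∀ y : Y, y * r = r * y := by
        intro r hr y
        have hrO : (r : G) ∈ O := hpel _ r.2.1 (by
          obtain ⟨k, hk⟩ := exists_pow_eq_one_of_mem R.2 hr
          exact ⟨k, by simpa using congrArg Subtype.val hk⟩)
        exact Subtype.ext (y.2.2 (r : G) hrO).symm
      have hYnpc : HasNormalPComplement p Y :=
        hasNormalPComplement_of_normalizer_le_centralizer R fun y _ r hr => (hRc r hr y).symm
      have hYK : pPrimeCore p Y = ⊥ := by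
        refine (Subgroup.map_eq_bot_iff_of_injective _ Y.subtype_injective).mp ?_
        exact le_bot_iff.mp ((map_pPrimeCore_le p Y).trans hK1.le)
      have hYp : IsPGroup p Y := by
        have h1 := isPGroup_quotient_of_hasNormalPComplement hYnpc
        intro y
        obtain ⟨k, hk⟩ := h1 (QuotientGroup.mk y)
        refine ⟨k, ?_⟩
        rwa [← QuotientGroup.mk_pow, QuotientGroup.eq_one_iff, hYK, Subgroup.mem_bot] at hk
      refine le_pCore (N := C) ?_
      intro c
      obtain ⟨k, hk⟩ := hMq (QuotientGroup.mk (c : G))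
      rw [← QuotientGroup.mk_pow, QuotientGroup.eq_one_iff] at hk
      obtain ⟨l, hl⟩ := exists_pow_eq_one_of_mem hYp (⟨hk, pow_mem c.2 _⟩ : (c : G) ^ p ^ k ∈ Y)
      exact ⟨k + l, Subtype.ext (by simpa [pow_add, pow_mul] using hl)⟩
    -- `M / O` has no proper non-trivial `P`-invariant subgroup
    have hinv : ∀ L : Subgroup G, O ≤ L → L ≤ M → L ≠ M →
        (P : Subgroup G) ≤ Subgroup.normalizer (L : Set G) → L = O := by
      intro L hOL hLM hne hPL
      set X := L ⊔ (P : Subgroup G) with hX
      have hXtop : X ≠ ⊤ := by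
        intro h
        refine hne (le_antisymm hLM fun x hx => ?_)
        have hx' : x ∈ X := by rw [h]; exact Subgroup.mem_top x
        rw [hX] at hx'
        obtain ⟨l, hl, u, hu, rfl⟩ := mem_sup_of_le_normalizer hPL hx'
        have huM : u ∈ M := by
          have h2 := M.mul_mem (M.inv_mem (hLM hl)) hx
          simpa using h2
        exact mul_mem hl (hOL (hpel u huM (exists_pow_eq_one_of_mem P.2 hu)))
      have hXnpc : HasNormalPComplement p X := hsub X (P.subtype le_sup_right) D hXtop (by
        rw [Sylow.coe_subtype, Subgroup.subgroupOf_map_subtype, inf_eq_left.mpr le_sup_right]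
        exact hD.1) (fun x hx g _ hg => hD.2 x hx g (by
          rw [Sylow.coe_subtype, Subgroup.subgroupOf_map_subtype, inf_eq_left.mpr le_sup_right] at hg
          exact hg)) hN
      set K := (pPrimeCore p X).map X.subtype with hK
      have hOX : O ≤ X := hOL.trans le_sup_left
      have hKC : K ≤ O := by
        refine le_trans ?_ hC
        rintro _ ⟨k, hk, rfl⟩ o ho
        haveI : (O.subgroupOf X).Normal := Subgroup.normal_subgroupOf
        have hd : Disjoint (O.subgroupOf X) (pPrimeCore p X) := by
          have hOp : IsPGroup p (O.subgroupOf X) := (isPGroup_pCore (G := G) p).comap_subtype (K := X)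
          obtain ⟨j, hj⟩ := hOp.exists_card_eq
          exact Subgroup.disjoint_of_coprime_natCard (by
            rw [hj]; exact ((card_pPrimeCore_coprime p).pow_right j).symm)
        exact congrArg Subtype.val (Subgroup.commute_of_normal_of_disjoint (O.subgroupOf X)
          (pPrimeCore p X) inferInstance inferInstance hd ⟨o, hOX ho⟩ k ho hk)
      have hXp : IsPGroup p X := by
        have h1 := isPGroup_quotient_of_hasNormalPComplement hXnpc
        intro y
        obtain ⟨k, hk⟩ := h1 (QuotientGroup.mk y)
        rw [← QuotientGroup.mk_pow, QuotientGroup.eq_one_iff] at hk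
        obtain ⟨l, hl⟩ := exists_pow_eq_one_of_mem (isPGroup_pCore (G := G) p)
          (hKC (Subgroup.mem_map_of_mem X.subtype hk))
        exact ⟨k + l, Subtype.ext (by simpa [pow_add, pow_mul] using hl)⟩
      refine le_antisymm (fun x hx => hpel x (hLM hx) ?_) hOL
      exact exists_pow_eq_one_of_mem hXp (Subgroup.mem_sup_left hx)
    -- hence `M / O` is abelian
    have hpre : ∀ Lb : Subgroup (G ⧸ O), Lb ≤ Kb →
        (P : Subgroup G).map π ≤ Subgroup.normalizer (Lb : Set (G ⧸ O)) → Lb = Kb ∨ Lb = ⊥ := by
      intro Lb hle hPn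
      by_cases he' : Lb.comap π = M
      · exact Or.inl ((Subgroup.comap_injective hs) (he'.trans hM))
      right
      have h1 := hinv (Lb.comap π) (fun x hx => by
        rw [Subgroup.mem_comap, show π x = 1 from (QuotientGroup.eq_one_iff x).mpr hx]
        exact one_mem _) (Subgroup.comap_mono hle) he' (by
        rw [← Subgroup.comap_normalizer_eq_of_surjective Lb hs]
        exact Subgroup.map_le_iff_le_comap.mp hPn)
      rw [Subgroup.eq_bot_iff_forall]
      intro y hy
      obtain ⟨g, rfl⟩ := hs y
      exact (QuotientGroup.eq_one_iff g).mpr (h1.le hy)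
    have hab : ∀ m ∈ M, ∀ n ∈ M, ⁅m, n⁆ ∈ O := by
      by_cases hKb0 : Kb = ⊥
      · intro m hm n _
        have hmO : m ∈ O := by
          rw [← QuotientGroup.eq_one_iff, ← Subgroup.mem_bot, ← hKb0]
          exact hm
        have h1 := O.mul_mem hmO ((inferInstance : O.Normal).conj_mem _ (O.inv_mem hmO) n)
        simpa [commutatorElement_def, mul_assoc] using h1
      obtain ⟨q, hq, hqd⟩ := Nat.exists_prime_and_dvd (n := Nat.card Kb) (fun h =>
        hKb0 (Subgroup.eq_bot_of_card_eq Kb h))
      haveI := Fact.mk hq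
      set Pb := (P : Subgroup G).map π with hPb
      have hPbp : IsPGroup p Pb := P.2.map π
      obtain ⟨k, hk⟩ := hPbp.exists_card_eq
      haveI : Group.IsNilpotent Pb := hPbp.isNilpotent
      obtain ⟨Q, hQ⟩ := coprime_exists_invariant_sylow (A := Pb) (K := Kb)
        (Subgroup.le_normalizer_of_normal ..)
        (by rw [hk]; exact ((card_pPrimeCore_coprime p).pow_right k).symm) (Or.inl inferInstance) q
      have hQ0 : (Q : Subgroup Kb).map Kb.subtype ≠ ⊥ := by
        rw [ne_eq, Subgroup.map_eq_bot_iff_of_injective _ Kb.subtype_injective]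
        intro h
        have := Q.not_dvd_index
        rw [h, Subgroup.index_bot] at this
        exact this hqd
      have hQK := (hpre _ (Subgroup.map_subtype_le _) hQ).resolve_right hQ0
      have hKq : IsPGroup q Kb := by
        rw [← hQK]
        exact Q.2.map _
      haveI : Group.IsNilpotent Kb := hKq.isNilpotent
      haveI : Nontrivial Kb := (Subgroup.nontrivial_iff_ne_bot Kb).mpr hKb0
      set D := (_root_.commutator Kb).map Kb.subtype with hD
      have hD' := hpre D (Subgroup.map_subtype_le _) (Subgroup.le_normalizer_of_normal ..)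
      have hDbot : D = ⊥ := hD'.resolve_left fun h =>
        (Group.IsSolvable.commutator_lt_top_of_nontrivial Kb).ne (Subgroup.map_injective Kb.subtype_injective (by
          rw [← MonoidHom.range_eq_map, Subgroup.range_subtype]; exact h))
      intro m hm n hn
      rw [← QuotientGroup.eq_one_iff, ← Subgroup.mem_bot, ← hDbot]
      exact ⟨⁅(⟨π m, hm⟩ : Kb), ⟨π n, hn⟩⁆,
        Subgroup.commutator_mem_commutator (Subgroup.mem_top _) (Subgroup.mem_top _),
        by simp only [map_commutatorElement, Subgroup.coe_subtype]; exact (map_commutatorElement π m n).symm⟩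
    have hst : QuadStable p G := quadStable_of_abelian hp2 M hab hcop1 hMq
    haveI := zj_normal_of_closed hp2 he hC hst P D hD
    refine hG (hasNormalPComplement_of_equiv Subgroup.topEquiv ?_)
    rwa [Subgroup.normalizer_eq_top_iff.mpr inferInstance] at hN

end CfsgLib.ZJ
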