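import Cfsg.Agent.Lib.ZJ.Replacement

/-!
The replaced subgroup of Glauberman's replacement theorem in full detail.
-/

set_option autoImplicit false
set_option linter.unusedSectionVars false
set_option maxHeartbeats 1000000

namespace CfsgLib.ZJ

open CfsgLib
open scoped Pointwise commutatorElement

universe u

variable {G : Type u} [Group G]

theorem replacement_full [Finite G] {p : ℕ} [Fact p.Prime] (hG : IsPGroup p G) {B A : Subgroup G} [B.Normal]
    (hpB : p ≠ 2 ∨ ∀ x ∈ B, ∀ y ∈ B, x * y = y * x)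
    (hAc : ∀ x ∈ A, ∀ y ∈ A, x * y = y * x)
    (hBBA : ⁅B, B⁆ ≤ A)
    {b : G} (hbB : b ∈ B) (hbA : b ∉ Subgroup.normalizer (A : Set G))
    (hbN' : b ∈ Subgroup.normalizer ((Subgroup.normalizer (A : Set G)) : Set G)) :
    let A' := Subgroup.closure (((A ⊓ MulAut.conj b • A : Subgroup G) : Set G) ∪
      (fun a => a⁻¹ * (b * a * b⁻¹)) '' (A : Set G))
    Nat.card A' = Nat.card A ∧ IsMulCommutative A' ∧ (∀ x ∈ B, ∀ y ∈ B, ⁅x, y⁆ ∈ A') ∧
      A ⊓ B < A' ⊓ B ∧ A' ⊓ B < B ∧ A ≤ Subgroup.normalizer (A' : Set G) ∧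
      A' ≤ Subgroup.normalizer (A : Set G) ∧ b ∈ Subgroup.normalizer (A' : Set G) ∧
      Subgroup.normalizer (A : Set G) < Subgroup.normalizer (A' : Set G) ∧
      (p ≠ 2 → Monoid.exponent A' ∣ Monoid.exponent A) := by
  intro A'
  have hBA : ∀ b ∈ B, ∀ c ∈ B, ⁅b, c⁆ ∈ A := fun x hx y hy =>
    hBBA (Subgroup.commutator_mem_commutator hx hy)
  have hBAc : ∀ g : G, ∀ x ∈ B, ∀ y ∈ B, g⁻¹ * ⁅x, y⁆ * g ∈ A := fun g x hx y hy => hBBA (by
    have h := (inferInstance : (⁅B, B⁆ : Subgroup G).Normal).conj_mem _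
      (Subgroup.commutator_mem_commutator hx hy) g⁻¹
    simpa using h)
  set P : Subgroup G := ⊤ with hPdef
  have hP : IsPGroup p P := hG.to_subgroup ⊤
  have hAP : A ≤ P := le_top
  have hBP : B ≤ P := le_top
  have hBn : P ≤ Subgroup.normalizer (B : Set G) := by rw [Subgroup.normalizer_eq_top]
  have hbN : ∀ x, x ∈ P ⊓ Subgroup.normalizer (A : Set G) ↔ b * x * b⁻¹ ∈ P ⊓ Subgroup.normalizer (A : Set G) := by
    intro x
    rw [hPdef, top_inf_eq]
    exact Subgroup.mem_normalizer_iff.1 hbN' x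
  set N := P ⊓ Subgroup.normalizer (A : Set G) with hN
  set A₁ : Subgroup G := MulAut.conj b • A with hA₁
  have hφA : ∀ a ∈ A, b * a * b⁻¹ ∈ A₁ := fun a ha => mem_conj_smul_iff.mpr (by simpa [mul_assoc] using ha)
  have hA₁mem : ∀ v ∈ A₁, b⁻¹ * v * b ∈ A := fun v hv => mem_conj_smul_iff.mp hv
  have hA₁c : ∀ x ∈ A₁, ∀ y ∈ A₁, x * y = y * x := fun x hx y hy => by
    have := hAc _ (hA₁mem x hx) _ (hA₁mem y hy)
    calc x * y = b * ((b⁻¹ * x * b) * (b⁻¹ * y * b)) * b⁻¹ := by group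
      _ = b * ((b⁻¹ * y * b) * (b⁻¹ * x * b)) * b⁻¹ := by rw [this]
      _ = y * x := by group
  have hAN : A ≤ N := le_inf hAP Subgroup.le_normalizer
  have hA₁N : A₁ ≤ N := fun v hv => by
    have h := (hbN _).mp (hAN (hA₁mem v hv))
    simpa [mul_assoc] using h
  set C := A ⊓ A₁ with hC
  have hcomm : ∀ u ∈ A, ∀ v ∈ A₁, ⁅u, v⁆ ∈ C := by
    intro u hu v hv
    constructor
    · have h1 : v * u⁻¹ * v⁻¹ ∈ A :=
        (Subgroup.mem_normalizer_iff.mp (hA₁N hv).2 _).mp (A.inv_mem hu)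
      have h2 := A.mul_mem hu h1
      simpa [commutatorElement_def, mul_assoc] using h2
    · -- `A` normalises its conjugate
      have hmem : b⁻¹ * u * b ∈ N := by
        refine (hbN _).mpr ?_
        have h3 : b * (b⁻¹ * u * b) * b⁻¹ = u := by group
        rw [h3]; exact hAN hu
      have h1 : (b⁻¹ * u * b) * (b⁻¹ * v * b) * (b⁻¹ * u * b)⁻¹ ∈ A :=
        (Subgroup.mem_normalizer_iff.mp hmem.2 _).mp (hA₁mem v hv)
      have h2 : u * v * u⁻¹ ∈ A₁ := mem_conj_smul_iff.mpr (by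
        have h4 : b⁻¹ * (u * v * u⁻¹) * b = (b⁻¹ * u * b) * (b⁻¹ * v * b) * (b⁻¹ * u * b)⁻¹ := by group
        rw [h4]; exact h1)
      have h5 := A₁.mul_mem h2 (A₁.inv_mem hv)
      simpa [commutatorElement_def, mul_assoc] using h5
  have hcA : ∀ c ∈ C, ∀ a ∈ A, c * a = a * c := fun c hc a ha => hAc c hc.1 a ha
  have hcA₁ : ∀ c ∈ C, ∀ a ∈ A₁, c * a = a * c := fun c hc a ha => hA₁c c hc.2 a ha
  let ξ : G → G := fun a => a⁻¹ * (b * a * b⁻¹)
  have hξB : ∀ a ∈ A, ξ a ∈ B := fun a ha => by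
    have h1 := (Subgroup.mem_normalizer_iff.mp (hBn (P.inv_mem (hAP ha))) b).mp hbB
    have h2 := B.mul_mem h1 (B.inv_mem hbB)
    simpa [ξ, mul_assoc] using h2
  have hcξ : ∀ c ∈ C, ∀ a ∈ A, c * ξ a = ξ a * c := fun c hc a ha =>
    commute_mul_of_commute (hcA c hc _ (A.inv_mem ha)) (hcA₁ c hc _ (hφA a ha))
  have hξξ : ∀ a ∈ A, ∀ a' ∈ A, ξ a * ξ a' = ξ a' * ξ a := by
    intro a ha a' ha'
    set f := b * a * b⁻¹ with hf
    set f' := b * a' * b⁻¹ with hf'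
    set r := ⁅a, f'⁆ with hr
    set q := ⁅f, a'⁆ with hq
    set x := ξ a with hx
    set y := ξ a' with hy
    set w := ⁅x, y⁆ with hw
    have hf1 : f ∈ A₁ := hφA a ha
    have hf1' : f' ∈ A₁ := hφA a' ha'
    have hrC : r ∈ C := hcomm a ha f' hf1'
    have hqC : q ∈ C := by
      have h := hcomm a' ha' f hf1
      rw [hq, ← commutatorElement_inv]
      exact inv_mem h
    have hay : ⁅a, y⁆ = r := by
      have e1 : a'⁻¹ * a = a * a'⁻¹ := hAc _ (A.inv_mem ha') a ha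
      have e2 : r * a' = a' * r := hcA r hrC a' ha'
      calc ⁅a, y⁆ = (a * a'⁻¹) * f' * a⁻¹ * f'⁻¹ * a' := by
            simp only [hy, ξ, commutatorElement_def]; rw [← hf']; group
        _ = (a'⁻¹ * a) * f' * a⁻¹ * f'⁻¹ * a' := by rw [e1]
        _ = a'⁻¹ * (r * a') := by simp only [hr, commutatorElement_def]; group
        _ = r := by rw [e2]; group
    have hfy : ⁅f, y⁆ = q⁻¹ := by
      have e1 : f * f' = f' * f := hA₁c f hf1 f' hf1'
      have e2 : q⁻¹ * a' = a' * q⁻¹ := hcA _ (inv_mem hqC) a' ha'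
      have e3 : f' * f⁻¹ = f⁻¹ * f' := hA₁c f' hf1' _ (A₁.inv_mem hf1)
      calc ⁅f, y⁆ = f * a'⁻¹ * (f' * f⁻¹) * f'⁻¹ * a' := by
            simp only [hy, ξ, commutatorElement_def]; rw [← hf']; group
        _ = f * a'⁻¹ * (f⁻¹ * f') * f'⁻¹ * a' := by rw [e3]
        _ = a'⁻¹ * (a' * f * a'⁻¹ * f⁻¹) * a' := by group
        _ = a'⁻¹ * (q⁻¹ * a') := by simp only [hq, commutatorElement_def]; group
        _ = q⁻¹ := by rw [e2]; group
    have hxa' : ⁅x, a'⁆ = q := by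
      have e1 : a * a'  = a' * a := hAc a ha a' ha'
      have e2 : q * a = a * q := hcA q hqC a ha
      calc ⁅x, a'⁆ = a⁻¹ * q * (a' * a * a'⁻¹) := by
            simp only [hx, ξ, hq, commutatorElement_def]; rw [← hf]; group
        _ = a⁻¹ * q * (a * a' * a'⁻¹) := by rw [e1]
        _ = a⁻¹ * (q * a) := by group
        _ = q := by rw [e2]; group
    have hwval : w = q⁻¹ * r⁻¹ := by
      have e2 : q⁻¹ * a = a * q⁻¹ := hcA _ (inv_mem hqC) a ha
      have e3 : r⁻¹ * a = a * r⁻¹ := hcA _ (inv_mem hrC) a ha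
      calc w = a⁻¹ * ⁅f, y⁆ * (⁅a, y⁆)⁻¹ * a := by
            simp only [hw, hx, ξ, commutatorElement_def]; rw [← hf]; group
        _ = a⁻¹ * (q⁻¹ * (r⁻¹ * a)) := by rw [hfy, hay]; group
        _ = a⁻¹ * (q⁻¹ * (a * r⁻¹)) := by rw [e3]
        _ = a⁻¹ * ((q⁻¹ * a) * r⁻¹) := by group
        _ = q⁻¹ * r⁻¹ := by rw [e2]; group
    have hxB : x ∈ B := hξB a ha
    have hyB : y ∈ B := hξB a' ha'
    have hwC : w ∈ C := hwval ▸ mul_mem (inv_mem hqC) (inv_mem hrC)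
    -- the effect of `b` on `x` and `y`
    have hshift : ∀ z ∈ B, ∃ c ∈ C, b * z * b⁻¹ = c * z := by
      intro z hz
      refine ⟨⁅b, z⁆, ⟨hBA b hbB z hz, mem_conj_smul_iff.mpr ?_⟩, by rw [commutatorElement_def]; group⟩
      exact hBAc b b hbB z hz
    obtain ⟨cx, hcx, ex⟩ := hshift x hxB
    obtain ⟨cy, hcy, ey⟩ := hshift y hyB
    have hbr : b * r * b⁻¹ = w * r := by
      have hcyf : cy * f = f * cy := hcA₁ cy hcy f hf1
      have hcyy : cy * y = y * cy := hcξ cy hcy a' ha'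
      have e3 : r * a = a * r := hcA r hrC a ha
      have e4 : w * a = a * w := hcA w hwC a ha
      have ef : f = a * x := by simp only [hx, ξ]; rw [← hf]; group
      have hcf : f * cy * f⁻¹ = cy := by rw [← hcyf, mul_inv_cancel_right]
      calc b * r * b⁻¹ = ⁅f, b * y * b⁻¹⁆ := by
            rw [← hay]; simp only [hf, commutatorElement_def]; group
        _ = (f * cy * f⁻¹) * (f * y * f⁻¹ * y⁻¹) * cy⁻¹ := by
            rw [ey]; simp only [commutatorElement_def]; group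
        _ = cy * ⁅f, y⁆ * cy⁻¹ := by rw [hcf, ← commutatorElement_def]
        _ = ⁅f, y⁆ := by
            rw [hfy, hcA cy hcy _ (inv_mem hqC).1, mul_inv_cancel_right]
        _ = a * w * a⁻¹ * ⁅a, y⁆ := by
            rw [ef]; simp only [hw, commutatorElement_def]; group
        _ = w * r := by rw [← e4, mul_inv_cancel_right, hay]
    have hbq : b * q * b⁻¹ = q * w := by
      have hcxy : cx * f' = f' * cx := hcA₁ cx hcx f' hf1'
      have hcxq : cx * q = q * cx := hcA cx hcx q hqC.1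
      have e4 : w * a' = a' * w := hcA w hwC a' ha'
      have ef : f' = a' * y := by simp only [hy, ξ]; rw [← hf']; group
      calc b * q * b⁻¹ = ⁅b * x * b⁻¹, f'⁆ := by
            rw [← hxa']; simp only [hf', commutatorElement_def]; group
        _ = cx * ⁅x, f'⁆ * (f' * cx⁻¹ * f'⁻¹) := by
            rw [ex]; simp only [commutatorElement_def]; group
        _ = cx * ⁅x, f'⁆ * cx⁻¹ := by
            rw [show f' * cx⁻¹ * f'⁻¹ = cx⁻¹ by
              rw [← hcA₁ _ (inv_mem hcx) f' hf1', mul_inv_cancel_right]]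
        _ = cx * (⁅x, a'⁆ * (a' * w * a'⁻¹)) * cx⁻¹ := by
            rw [ef]; simp only [hw, commutatorElement_def]; group
        _ = cx * (q * w) * cx⁻¹ := by rw [← e4, mul_inv_cancel_right, hxa']
        _ = q * w := by rw [hcA cx hcx _ (mul_mem hqC.1 hwC.1), mul_inv_cancel_right]
    rcases hpB with hp | hp
    swap
    · exact hp x hxB y hyB
    have hw2 : w * w = 1 := by
      have h1 : b * w * b⁻¹ = (q * w)⁻¹ * (w * r)⁻¹ := by
        rw [← hbq, ← hbr, hwval]; group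
      have h2 : r⁻¹ * w⁻¹ = w⁻¹ * r⁻¹ := hAc _ (A.inv_mem hrC.1) _ (A.inv_mem hwC.1)
      have hinv : b * w * b⁻¹ = w⁻¹ := by
        calc b * w * b⁻¹ = (q * w)⁻¹ * (w * r)⁻¹ := h1
          _ = w⁻¹ * (q⁻¹ * r⁻¹) * w⁻¹ := by group
          _ = w⁻¹ := by rw [← hwval, inv_mul_cancel, one_mul]
      have hodd : ∀ k : ℕ, b ^ (2 * k) * w * (b ^ (2 * k))⁻¹ = w := by
        intro k
        induction k with
        | zero => simp
        | succ k ih =>
          rw [show 2 * (k + 1) = 2 * k + 2 by ring, pow_add]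
          calc b ^ (2 * k) * b ^ 2 * w * (b ^ (2 * k) * b ^ 2)⁻¹
              = b ^ (2 * k) * (b * (b * w * b⁻¹) * b⁻¹) * (b ^ (2 * k))⁻¹ := by group
            _ = b ^ (2 * k) * (b * w⁻¹ * b⁻¹) * (b ^ (2 * k))⁻¹ := by rw [hinv]
            _ = b ^ (2 * k) * ((b * w * b⁻¹)⁻¹) * (b ^ (2 * k))⁻¹ := by group
            _ = b ^ (2 * k) * w * (b ^ (2 * k))⁻¹ := by rw [hinv, inv_inv]
            _ = w := ih
      obtain ⟨k, hk⟩ := hG b
      obtain ⟨m, hm⟩ : Odd (p ^ k) := ((Fact.out : p.Prime).odd_of_ne_two hp).pow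
      have h3 : w = w⁻¹ := by
        calc w = b ^ (p ^ k) * w * (b ^ (p ^ k))⁻¹ := by rw [hk]; group
          _ = b * (b ^ (2 * m) * w * (b ^ (2 * m))⁻¹) * b⁻¹ := by rw [hm, pow_succ']; group
          _ = w⁻¹ := by rw [hodd, hinv]
      calc w * w = w * w⁻¹ := by rw [← h3]
        _ = 1 := mul_inv_cancel w
    have hwP : w ∈ P := hAP hwC.1
    obtain ⟨k, hk⟩ := hP ⟨w, hwP⟩
    have h5 : orderOf w ∣ p ^ k := orderOf_dvd_of_pow_eq_one (by simpa using congrArg Subtype.val hk)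
    have h6 : orderOf w ∣ 2 := orderOf_dvd_of_pow_eq_one (by rw [pow_two]; exact hw2)
    have h7 : w = 1 := orderOf_eq_one_iff.mp (Nat.eq_one_of_dvd_coprimes
      ((Nat.coprime_primes (Fact.out : p.Prime) Nat.prime_two).mpr hp |>.pow_left k) h5 h6)
    rwa [hw, commutatorElement_eq_one_iff_mul_comm] at h7
  have hA'eq : A' = Subgroup.closure ((C : Set G) ∪ ξ '' (A : Set G)) := rfl
  have hCA' : ∀ c ∈ C, c ∈ A' := fun c hc => hA'eq ▸ Subgroup.subset_closure (Or.inl hc)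
  have hξA' : ∀ a ∈ A, ξ a ∈ A' := fun a ha => hA'eq ▸ Subgroup.subset_closure (Or.inr ⟨a, ha, rfl⟩)
  have hA'c : ∀ x ∈ A', ∀ y ∈ A', x * y = y * x := by
    haveI : IsMulCommutative (Subgroup.closure ((C : Set G) ∪ ξ '' (A : Set G))) :=
      Subgroup.isMulCommutative_closure (by
        rintro u (hu | ⟨a, ha, rfl⟩) v (hv | ⟨a', ha', rfl⟩)
        · exact hAc u hu.1 v hv.1
        · exact hcξ u hu a' ha'
        · exact (hcξ v hv a ha).symm
        · exact hξξ a ha a' ha')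
    rw [hA'eq]
    exact fun x hx y hy => Subgroup.mul_comm_of_mem_isMulCommutative _ hx hy
  have hA'N : A' ≤ N := by
    rw [hA'eq, Subgroup.closure_le]
    rintro u (hu | ⟨a, ha, rfl⟩)
    · exact hAN hu.1
    · exact mul_mem (inv_mem (hAN ha)) (hA₁N (hφA a ha))
  have hA'n : A' ≤ Subgroup.normalizer (A : Set G) := hA'N.trans inf_le_right
  -- `C` is invariant under `b`
  have hdC : ∀ x ∈ B, ∀ y ∈ B, ⁅x, y⁆ ∈ C := fun x hx y hy =>
    ⟨hBA x hx y hy, mem_conj_smul_iff.mpr (hBAc b x hx y hy)⟩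
  have hCb : ∀ c ∈ C, b * c * b⁻¹ ∈ C := by
    intro c hc
    refine ⟨?_, hφA c hc.1⟩
    have hy : b⁻¹ * c * b * c⁻¹ ∈ A := A.mul_mem (hA₁mem c hc.2) (A.inv_mem hc.1)
    have hyB : b⁻¹ * c * b * c⁻¹ ∈ B := by
      have := B.mul_mem (B.inv_mem hbB) ((inferInstance : B.Normal).conj_mem b hbB c)
      simpa [mul_assoc] using this
    have hmem : b * (b⁻¹ * c * b * c⁻¹) * b⁻¹ ∈ A := by
      rw [show b * (b⁻¹ * c * b * c⁻¹) * b⁻¹ =
        ⁅b, b⁻¹ * c * b * c⁻¹⁆ * (b⁻¹ * c * b * c⁻¹) by rw [commutatorElement_def]; group]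
      exact A.mul_mem (hBA b hbB _ hyB) hy
    have h2 := A.mul_mem (A.inv_mem hmem) hc.1
    simpa [mul_assoc] using h2
  have hCb' : ∀ c ∈ C, b⁻¹ * c * b ∈ C := by
    have heq : C.map (MulAut.conj b).toMonoidHom = C :=
      Subgroup.eq_of_le_of_card_ge (by rintro _ ⟨c, hc, rfl⟩; exact hCb c hc)
        (by rw [Subgroup.card_map_of_injective (MulAut.conj b).injective])
    intro c hc
    obtain ⟨c', hc', e⟩ := heq.ge hc
    rw [← e]
    simpa [mul_assoc] using hc'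
  have hξmulC : ∀ a ∈ A, ∀ c ∈ C, ∃ d ∈ C, ξ (a * c) = ξ a * d := fun a ha c hc => by
    refine ⟨c⁻¹ * (b * c * b⁻¹), C.mul_mem (C.inv_mem hc) (hCb c hc), ?_⟩
    have h1 : c⁻¹ * ξ a = ξ a * c⁻¹ := hcξ _ (C.inv_mem hc) a ha
    calc ξ (a * c) = (c⁻¹ * ξ a) * (b * c * b⁻¹) := by simp only [ξ]; group
      _ = ξ a * (c⁻¹ * (b * c * b⁻¹)) := by rw [h1, mul_assoc]
  have hξmul : ∀ a ∈ A, ∀ a' ∈ A, ∃ d ∈ C, ξ (a * a') = ξ a * ξ a' * d := fun a ha a' ha' => by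
    set f := b * a * b⁻¹
    have hf1 : f ∈ A₁ := hφA a ha
    have hq : ⁅a'⁻¹, f⁆ ∈ C := hcomm _ (A.inv_mem ha') f hf1
    refine ⟨⁅a'⁻¹, f⁆, hq, ?_⟩
    have h0 : a * a' = a' * a := hAc a ha a' ha'
    have h1 : ⁅a'⁻¹, f⁆ * a⁻¹ = a⁻¹ * ⁅a'⁻¹, f⁆ := hcA _ hq _ (A.inv_mem ha)
    have h2 : ξ a * ξ a' * ⁅a'⁻¹, f⁆ = ⁅a'⁻¹, f⁆ * (ξ a * ξ a') :=
      (commute_mul_of_commute (hcξ _ hq a ha) (hcξ _ hq a' ha')).symm
    calc ξ (a * a') = a⁻¹ * ⁅a'⁻¹, f⁆ * f * (a'⁻¹ * (b * a' * b⁻¹)) := by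
          simp only [ξ]; rw [mul_inv_rev, hAc _ (A.inv_mem ha') _ (A.inv_mem ha)]; simp only [f, commutatorElement_def]; group
      _ = ⁅a'⁻¹, f⁆ * (ξ a * ξ a') := by rw [← h1]; simp only [ξ, f]; group
      _ = _ := h2.symm
  have hξone : ξ 1 = 1 := by simp [ξ]
  -- every element of `A'` is `ξ a * c`
  have hform : ∀ z ∈ A', ∃ a ∈ A, ∃ c ∈ C, z = ξ a * c := by
    intro z hz
    rw [hA'eq] at hz
    have hgen : ∀ u ∈ (C : Set G) ∪ ξ '' (A : Set G), ∃ a ∈ A, ∃ c ∈ C, u = ξ a * c := by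
      rintro u (hu | ⟨a, ha, rfl⟩)
      · exact ⟨1, A.one_mem, u, hu, by rw [hξone, one_mul]⟩
      · exact ⟨a, ha, 1, C.one_mem, by rw [mul_one]⟩
    have hmul : ∀ u v : G, (∃ a ∈ A, ∃ c ∈ C, u = ξ a * c) → (∃ a ∈ A, ∃ c ∈ C, v = ξ a * c) →
        ∃ a ∈ A, ∃ c ∈ C, u * v = ξ a * c := by
      rintro u v ⟨a, ha, c, hc, rfl⟩ ⟨a', ha', c', hc', rfl⟩
      obtain ⟨d, hd, e⟩ := hξmul a ha a' ha'
      refine ⟨a * a', A.mul_mem ha ha', d⁻¹ * c * c', C.mul_mem (C.mul_mem (C.inv_mem hd) hc) hc', ?_⟩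
      rw [e]
      have h1 : c * ξ a' = ξ a' * c := hcξ c hc a' ha'
      calc ξ a * c * (ξ a' * c') = ξ a * (c * ξ a') * c' := by group
        _ = ξ a * (ξ a' * c) * c' := by rw [h1]
        _ = _ := by group
    have hinv : ∀ u : G, (∃ a ∈ A, ∃ c ∈ C, u = ξ a * c) → ∃ a ∈ A, ∃ c ∈ C, u⁻¹ = ξ a * c := by
      rintro u ⟨a, ha, c, hc, rfl⟩
      obtain ⟨d, hd, e⟩ := hξmul a ha a⁻¹ (A.inv_mem ha)
      rw [mul_inv_cancel, hξone] at e
      refine ⟨a⁻¹, A.inv_mem ha, d * c⁻¹, C.mul_mem hd (C.inv_mem hc), ?_⟩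
      have h1 : (ξ a)⁻¹ = ξ a⁻¹ * d := inv_eq_of_mul_eq_one_right (by rw [← mul_assoc]; exact e.symm)
      have h2 : c⁻¹ * ξ a = ξ a * c⁻¹ := hcξ _ (C.inv_mem hc) a ha
      have h3 : c⁻¹ * (ξ a)⁻¹ = (ξ a)⁻¹ * c⁻¹ := (show Commute c⁻¹ (ξ a) from h2).inv_right.eq
      rw [mul_inv_rev, h3, h1, mul_assoc]
    induction hz using Subgroup.closure_induction with
    | mem u hu => exact hgen u hu
    | one => exact ⟨1, A.one_mem, 1, C.one_mem, by rw [hξone, one_mul]⟩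
    | mul u v _ _ h1 h2 => exact hmul u v h1 h2
    | inv u _ h1 => exact hinv u h1
  have hcard : Nat.card A' ≤ Nat.card A := by
    have hCle : C ≤ A := inf_le_left
    have hCle' : C ≤ A' := hCA'
    have hidx : C.relIndex A' ≤ C.relIndex A := by
      show Nat.card (A' ⧸ C.subgroupOf A') ≤ Nat.card (A ⧸ C.subgroupOf A)
      refine Nat.card_le_card_of_surjective (fun q : A ⧸ C.subgroupOf A =>
        (QuotientGroup.mk ⟨ξ (q.out : G), hξA' _ q.out.2⟩ : A' ⧸ C.subgroupOf A')) ?_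
      intro y
      obtain ⟨⟨z, hz⟩, rfl⟩ := QuotientGroup.mk_surjective y
      obtain ⟨a, ha, c, hc, rfl⟩ := hform z hz
      refine ⟨QuotientGroup.mk ⟨a, ha⟩, ?_⟩
      obtain ⟨⟨c₀, hc₀⟩, e₀⟩ := QuotientGroup.mk_out_eq_mul (C.subgroupOf A) ⟨a, ha⟩
      obtain ⟨d, hd, e⟩ := hξmulC a ha _ (show (c₀ : G) ∈ C from hc₀)
      refine QuotientGroup.eq.2 (Subgroup.mem_subgroupOf.2 ?_)
      have e' : ((Quotient.out (QuotientGroup.mk ⟨a, ha⟩ : A ⧸ C.subgroupOf A) : A) : G) = a * (c₀ : G) :=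
        congrArg Subtype.val e₀
      show (ξ ((Quotient.out (QuotientGroup.mk ⟨a, ha⟩ : A ⧸ C.subgroupOf A) : A) : G))⁻¹ * (ξ a * c) ∈ C
      rw [e', e]
      have := C.mul_mem (C.inv_mem hd) hc
      simpa [mul_assoc] using this
    rw [← Subgroup.relIndex_bot_left A', ← Subgroup.relIndex_bot_left A,
      ← Subgroup.relIndex_mul_relIndex ⊥ C A' bot_le hCle', ← Subgroup.relIndex_mul_relIndex ⊥ C A bot_le hCle]
    exact Nat.mul_le_mul_left _ hidx
  have hcard' : Nat.card A ≤ Nat.card A' := by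
    refine Nat.le_of_mul_le_mul_left ?_ (Nat.card_pos (α := A))
    have hsup : A ⊔ A₁ ≤ A ⊔ A' := sup_le le_sup_left fun v hv => by
      have ha : b⁻¹ * v * b ∈ A := hA₁mem v hv
      have h1 := mul_mem (Subgroup.mem_sup_left (T := A') ha) (Subgroup.mem_sup_right (S := A) (hξA' _ ha))
      have h2 : b⁻¹ * v * b * ξ (b⁻¹ * v * b) = v := by simp only [ξ]; group
      rwa [h2] at h1
    calc Nat.card A * Nat.card A = Nat.card A * Nat.card A₁ := by rw [hA₁, card_conj_smul]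
      _ ≤ Nat.card ↥(A ⊔ A₁) * Nat.card ↥(A ⊓ A₁) := Products.card_mul_card_le A A₁
      _ ≤ Nat.card ↥(A ⊔ A') * Nat.card ↥(A ⊓ A') :=
        Nat.mul_le_mul (Subgroup.card_le_of_le hsup) (Subgroup.card_le_of_le (le_inf inf_le_left hCA'))
      _ = Nat.card A * Nat.card A' := (card_mul_eq_of_le_normalizer hA'n).symm
  have hne : ∃ a ∈ A, ξ a ∉ A := by
    by_contra hall
    push Not at hall
    refine hbA ?_
    have hle : MulAut.conj b • A ≤ A := fun v hv => by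
      have ha : b⁻¹ * v * b ∈ A := hA₁mem v hv
      have h2 : b⁻¹ * v * b * ξ (b⁻¹ * v * b) = v := by simp only [ξ]; group
      rw [← h2]
      exact mul_mem ha (hall _ ha)
    have heq : MulAut.conj b • A = A := Subgroup.eq_of_le_of_card_ge hle (card_conj_smul _ A).ge
    rw [Subgroup.mem_normalizer_iff]
    intro z
    conv_rhs => rw [← heq, mem_conj_smul_iff]
    simp [mul_assoc]
  have hlt : A ⊓ B < A' ⊓ B := by
    refine lt_of_le_of_ne (le_inf (fun z hz => hCA' z ⟨hz.1, mem_conj_smul_iff.mpr ?_⟩) inf_le_right) ?_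
    · have h1 : ⁅b⁻¹, z⁆ ∈ A := hBA b⁻¹ (B.inv_mem hbB) z hz.2
      have h2 : b⁻¹ * z * b = ⁅b⁻¹, z⁆ * z := by simp only [commutatorElement_def]; group
      rw [h2]
      exact mul_mem h1 hz.1
    · obtain ⟨a, ha, hne⟩ := hne
      intro heq
      exact hne (heq.ge ⟨hξA' a ha, hξB a ha⟩).1
  have hnorm : ∀ n : G, (∀ z ∈ A', n * z * n⁻¹ ∈ A') → n ∈ Subgroup.normalizer (A' : Set G) := by
    intro n hn
    have heq : A'.map (MulAut.conj n).toMonoidHom = A' :=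
      Subgroup.eq_of_le_of_card_ge (by rintro _ ⟨z, hz, rfl⟩; exact hn z hz)
        (by rw [Subgroup.card_map_of_injective (MulAut.conj n).injective])
    refine Subgroup.mem_normalizer_iff.2 fun z => ⟨hn z, fun hz => ?_⟩
    obtain ⟨w, hw, e⟩ := heq.ge hz
    rwa [← (MulAut.conj n).injective e]
  have hnormN : ∀ n ∈ Subgroup.normalizer (A : Set G), ∀ z ∈ A', n * z * n⁻¹ ∈ A' := by
    intro n hn z hz
    have hn' : b⁻¹ * n * b ∈ Subgroup.normalizer (A : Set G) :=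
      (Subgroup.mem_normalizer_iff.1 hbN' _).2 (by simpa [mul_assoc] using hn)
    have hAn : ∀ a ∈ A, n * a * n⁻¹ ∈ A := fun a ha => (Subgroup.mem_normalizer_iff.1 hn a).1 ha
    have hCn : ∀ c ∈ C, n * c * n⁻¹ ∈ C := fun c hc => ⟨hAn c hc.1, mem_conj_smul_iff.mpr (by
      have := (Subgroup.mem_normalizer_iff.1 hn' _).1 (hA₁mem c hc.2)
      simpa [mul_assoc] using this)⟩
    obtain ⟨a, ha, c, hc, rfl⟩ := hform z hz
    rw [show n * (ξ a * c) * n⁻¹ = (n * ξ a * n⁻¹) * (n * c * n⁻¹) by group]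
    refine A'.mul_mem ?_ (hCA' _ (hCn c hc))
    set β := n⁻¹ * (b⁻¹ * n * b) with hβ
    have hβB : β ∈ B := by
      have := B.mul_mem ((inferInstance : B.Normal).conj_mem _ (B.inv_mem hbB) n⁻¹) hbB
      simpa [hβ, mul_assoc] using this
    have hβn : β ∈ Subgroup.normalizer (A : Set G) := mul_mem (inv_mem hn) hn'
    set d := β * a * β⁻¹ * a⁻¹ with hd
    have hdA : d ∈ A := A.mul_mem ((Subgroup.mem_normalizer_iff.1 hβn a).1 ha) (A.inv_mem ha)
    have hdB : d ∈ B := by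
      have := B.mul_mem hβB ((inferInstance : B.Normal).conj_mem _ (B.inv_mem hβB) a)
      simpa [hd, mul_assoc] using this
    have hdC : d ∈ C := ⟨hdA, mem_conj_smul_iff.mpr (by
      rw [show b⁻¹ * d * b = ⁅b⁻¹, d⁆ * d by rw [commutatorElement_def]; group]
      exact A.mul_mem (hBA b⁻¹ (B.inv_mem hbB) d hdB) hdA)⟩
    set a' := n * a * n⁻¹ with ha'
    set d' := n * d * n⁻¹ with hd'
    have hd'C : d' ∈ C := hCn d hdC
    have hbd : b * d' * b⁻¹ ∈ C := hCb d' hd'C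
    have e : n * ξ a * n⁻¹ = a'⁻¹ * (b * d' * b⁻¹) * (b * a' * b⁻¹) := by
      simp only [ξ, ha', hd', hd, hβ]; group
    rw [e, ← hcA _ hbd _ (A.inv_mem (hAn a ha)), mul_assoc]
    exact A'.mul_mem (hCA' _ hbd) (hξA' _ (hAn a ha))
  have hAA' : A ≤ Subgroup.normalizer (A' : Set G) := fun a ha =>
    hnorm a (hnormN a (Subgroup.le_normalizer ha))
  have hbA' : b ∈ Subgroup.normalizer (A' : Set G) := by
    refine hnorm b fun z hz => ?_
    obtain ⟨a, ha, c, hc, rfl⟩ := hform z hz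
    rw [show b * (ξ a * c) * b⁻¹ = (⁅b, ξ a⁆ * ξ a) * (b * c * b⁻¹) by rw [commutatorElement_def]; group]
    exact A'.mul_mem (A'.mul_mem (hCA' _ (hdC b hbB _ (hξB a ha))) (hξA' a ha)) (hCA' _ (hCb c hc))
  refine ⟨le_antisymm hcard hcard', ⟨⟨fun x y => Subtype.ext (hA'c x x.2 y y.2)⟩⟩,
    fun x hx y hy => hCA' _ (hdC x hx y hy), hlt, ?_, hAA', hA'n, hbA', ?_, ?_⟩
  · refine lt_of_le_of_ne inf_le_right fun heq => hbA (hA'n ?_)
    exact (heq.ge hbB).1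
  · refine lt_of_le_of_ne (fun n hn => hnorm n (hnormN n hn)) fun heq => hbA ?_
    exact heq.ge hbA'
  · intro hp2
    set e := Monoid.exponent A with he
    have hAe : ∀ a ∈ A, a ^ e = 1 := fun a ha => by
      simpa using congrArg Subtype.val (Monoid.pow_exponent_eq_one (⟨a, ha⟩ : A))
    have hodd : e ∣ e.choose 2 := by
      obtain ⟨m, hm⟩ := IsPGroup.iff_card.1 (hG.to_subgroup A)
      obtain ⟨j, -, hj⟩ := (Nat.dvd_prime_pow (Fact.out : p.Prime)).1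
        (hm ▸ (Group.exponent_dvd_nat_card : Monoid.exponent A ∣ Nat.card A))
      have ho : Odd e := by rw [he, hj]; exact ((Fact.out : p.Prime).odd_of_ne_two hp2).pow
      obtain ⟨k, hk⟩ := ho
      exact ⟨k, by rw [Nat.choose_two_right, hk, Nat.add_sub_cancel, mul_comm 2 k, ← mul_assoc,
        Nat.mul_div_cancel _ two_pos]⟩
    refine Monoid.exponent_dvd_of_forall_pow_eq_one fun z => Subtype.ext ?_
    obtain ⟨a, ha, c, hc, hzc⟩ := hform z z.2
    show (z : G) ^ e = 1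
    set v := b * a * b⁻¹ with hv
    have hv1 : v ∈ A₁ := hφA a ha
    have hc' : ⁅v, a⁻¹⁆ ∈ C := by
      rw [← commutatorElement_inv]
      exact inv_mem (hcomm _ (A.inv_mem ha) v hv1)
    have h := mul_pow_class_two (u := a⁻¹) (v := v) (c := ⁅v, a⁻¹⁆)
      (by rw [commutatorElement_def]; group) (hcA _ hc' _ (A.inv_mem ha)) (hcA₁ _ hc' _ hv1) e
    have hξe : (ξ a) ^ e = 1 := by
      show (a⁻¹ * v) ^ e = 1
      rw [h, inv_pow, hAe a ha, inv_one, one_mul, hv, conj_pow, hAe a ha, mul_one, mul_inv_cancel, one_mul]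
      obtain ⟨m, hm⟩ := hodd
      rw [hm, pow_mul, hAe _ hc'.1, one_pow]
    rw [hzc, (show Commute (ξ a) c from (hcξ c hc a ha).symm).mul_pow, hξe, hAe c hc.1, one_mul]

end CfsgLib.ZJ
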